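import Groth.Agent.DQCoh.FlatAdm17
import Groth.Agent.Desc19b.FlatOverBC
import Groth.Agent.DCat.KFlatSheaf

/-!
# Base change is exact on short exact sequences with quotient flat over the base
-/

set_option autoImplicit false
set_option backward.isDefEq.respectTransparency false
set_option backward.isDefEq.respectTransparency.types false
set_option linter.style.haveILetI false

universe u

open CategoryTheory CategoryTheory.Limits AlgebraicGeometry TensorProduct

namespace Groth.Agent.HTor16

theorem lTensor_injective_pushout {R A R' T O : Type u} [CommRing R] [CommRing A] [CommRing R'] [CommRing T]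
    [CommRing O] [Algebra R A] [Algebra R R'] [Algebra R' T] [Algebra A T] [Algebra R T] [IsScalarTower R R' T]
    [IsScalarTower R A T] [Algebra.IsPushout R R' A T] [Algebra T O] [Algebra A O] [IsScalarTower A T O]
    [Module.Flat T O] {M₁ M₂ M₃ : Type u} [AddCommGroup M₁] [Module A M₁] [Module R M₁] [IsScalarTower R A M₁]
    [AddCommGroup M₂] [Module A M₂] [Module R M₂] [IsScalarTower R A M₂]
    [AddCommGroup M₃] [Module A M₃] [Module R M₃] [IsScalarTower R A M₃] [Module.Flat R M₃]
    (i : M₁ →ₗ[A] M₂) (p : M₂ →ₗ[A] M₃) (hi : Function.Injective i) (hp : Function.Surjective p)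
    (hex : Function.Exact i p) : Function.Injective (i.lTensor O) := by
  have h1 : Function.Injective ((i.restrictScalars R).lTensor R') :=
    LinearMap.lTensor_injective_of_exact_of_flat (p.restrictScalars R) hp (i.restrictScalars R) hi hex R'
  have h2 : Function.Injective (AlgebraTensorModule.lTensor T T i) := by
    let e₁ := (Algebra.IsPushout.cancelBaseChangeAux R R' A T M₁).symm
    let e₂ := (Algebra.IsPushout.cancelBaseChangeAux R R' A T M₂).symm
    have hh : ∀ z, AlgebraTensorModule.lTensor T T i (e₁ z) = e₂ ((i.restrictScalars R).lTensor R' z) := fun z => by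
      induction z using TensorProduct.induction_on with
      | zero => simp only [map_zero]
      | tmul s m => simp [e₁, e₂]
      | add a b ha hb => simp only [map_add, ha, hb]
    intro a b hab
    obtain ⟨a, rfl⟩ := e₁.surjective a
    obtain ⟨b, rfl⟩ := e₁.surjective b
    rw [hh, hh] at hab
    rw [h1 (e₂.injective hab)]
  have h3 := Module.Flat.lTensor_preserves_injective_linearMap (M := O) (AlgebraTensorModule.lTensor T T i) h2
  let c₁ := AlgebraTensorModule.cancelBaseChange A T O O M₁
  let c₂ := AlgebraTensorModule.cancelBaseChange A T O O M₂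
  have hh : ∀ z, i.lTensor O (c₁ z) = c₂ ((AlgebraTensorModule.lTensor T T i).lTensor O z) := fun z => by
    induction z using TensorProduct.induction_on with
    | zero => simp only [map_zero]
    | tmul o w =>
      induction w using TensorProduct.induction_on with
      | zero => simp only [tmul_zero, map_zero]
      | tmul t m => simp [c₁, c₂]
      | add a b ha hb => simp only [tmul_add, map_add, ha, hb]
    | add a b ha hb => simp only [map_add, ha, hb]
  intro a b hab
  obtain ⟨a, rfl⟩ := c₁.surjective a
  obtain ⟨b, rfl⟩ := c₁.surjective b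
  rw [hh, hh] at hab
  rw [h3 (c₂.injective hab)]

variable {X S X' S' : Scheme.{u}} {f : X ⟶ S} {f' : X' ⟶ S'} {g' : X' ⟶ X} {g : S' ⟶ S}
  (hc : IsPullback g' f' f g)

include hc in
/-- Base change is exact on short exact sequences with quotient flat over the base. -/
theorem shortExact_pullback_of_flatOver (C : ShortComplex X.Modules) (hC : C.ShortExact)
    (h₃ : FlatMod.IsFlatOver f C.X₃) : (C.map (Scheme.Modules.pullback g')).ShortExact := by
  obtain ⟨hex, hepi⟩ := Coherent.CohBC.pullback_exact_of_shortExact g' C hC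
  haveI := hepi
  haveI hm : Mono ((Scheme.Modules.pullback g').map C.f) := by
    haveI hst : ∀ x', Mono ((DerSch.stalkFunctor X' x').map ((Scheme.Modules.pullback g').map C.f)) := fun x' => by
      have hpt : g (f' x') = f (g' x') := by
        show (f' ≫ g) x' = (g' ≫ f) x'
        rw [hc.w]
      let a : S.presheaf.stalk (f (g' x')) ⟶ X.presheaf.stalk (g' x') := f.stalkMap (g' x')
      let b : S.presheaf.stalk (f (g' x')) ⟶ S'.presheaf.stalk (f' x') :=
        S.presheaf.stalkSpecializes (specializes_of_eq hpt) ≫ g.stalkMap (f' x')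
      have ha : Spec.map a ≫ S.fromSpecStalk (f (g' x')) = X.fromSpecStalk (g' x') ≫ f :=
        Scheme.SpecMap_stalkMap_fromSpecStalk f
      have hb : Spec.map b ≫ S.fromSpecStalk (f (g' x')) = S'.fromSpecStalk (f' x') ≫ g := by
        simp only [b, Spec.map_comp, Category.assoc, Scheme.SpecMap_stalkSpecializes_fromSpecStalk,
          Scheme.SpecMap_stalkMap_fromSpecStalk]
      have w : a ≫ g'.stalkMap x' = b ≫ f'.stalkMap x' := by
        apply Spec.map_injective
        rw [← cancel_mono (S.fromSpecStalk (f (g' x'))), Spec.map_comp a, Spec.map_comp b, Category.assoc,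
          Category.assoc, ha, hb, ← Category.assoc, ← Category.assoc, Scheme.SpecMap_stalkMap_fromSpecStalk,
          Scheme.SpecMap_stalkMap_fromSpecStalk, Category.assoc, Category.assoc, hc.w]
      have hθ := Desc19b.exists_flat_stalk_tensor f f' g' g hc x' a b w _ ha hb
      letI : Algebra (S.presheaf.stalk (f (g' x'))) (X.presheaf.stalk (g' x')) := a.hom.toAlgebra
      letI : Algebra (S.presheaf.stalk (f (g' x'))) (S'.presheaf.stalk (f' x')) := b.hom.toAlgebra
      letI : Algebra (S'.presheaf.stalk (f' x')) ↑(pushout a b) := (pushout.inr a b).hom.toAlgebra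
      letI : Algebra (X.presheaf.stalk (g' x')) ↑(pushout a b) := (pushout.inl a b).hom.toAlgebra
      letI : Algebra (S.presheaf.stalk (f (g' x'))) ↑(pushout a b) := (a ≫ pushout.inl a b).hom.toAlgebra
      haveI : IsScalarTower (S.presheaf.stalk (f (g' x'))) (X.presheaf.stalk (g' x')) ↑(pushout a b) :=
        .of_algebraMap_eq fun _ => rfl
      haveI : IsScalarTower (S.presheaf.stalk (f (g' x'))) (S'.presheaf.stalk (f' x')) ↑(pushout a b) :=
        .of_algebraMap_eq fun r =>
          RingHom.congr_fun (congrArg CommRingCat.Hom.hom (pushout.condition (f := a) (g := b))) r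
      haveI : Algebra.IsPushout (S.presheaf.stalk (f (g' x'))) (S'.presheaf.stalk (f' x'))
          (X.presheaf.stalk (g' x')) ↑(pushout a b) :=
        CommRingCat.isPushout_iff_isPushout.1 (IsPushout.of_hasPushout a b).flip
      letI : Algebra ↑(pushout a b) (X'.presheaf.stalk x') :=
        (pushout.desc (g'.stalkMap x') (f'.stalkMap x') w).hom.toAlgebra
      letI : Algebra (X.presheaf.stalk (g' x')) (X'.presheaf.stalk x') := (g'.stalkMap x').hom.toAlgebra
      haveI : IsScalarTower (X.presheaf.stalk (g' x')) ↑(pushout a b) (X'.presheaf.stalk x') :=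
        .of_algebraMap_eq fun r =>
          (RingHom.congr_fun (congrArg CommRingCat.Hom.hom (pushout.inl_desc _ _ w)) r).symm
      haveI : Module.Flat ↑(pushout a b) (X'.presheaf.stalk x') := hθ
      let St := DerSch.stalkFunctor X (g' x')
      letI : Module (S.presheaf.stalk (f (g' x'))) (St.obj C.X₁) := Module.compHom _ a.hom
      letI : Module (S.presheaf.stalk (f (g' x'))) (St.obj C.X₂) := Module.compHom _ a.hom
      letI : Module (S.presheaf.stalk (f (g' x'))) (St.obj C.X₃) := Module.compHom _ a.hom
      haveI : IsScalarTower (S.presheaf.stalk (f (g' x'))) (X.presheaf.stalk (g' x')) (St.obj C.X₁) :=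
        IsScalarTower.of_compHom _ _ _
      haveI : IsScalarTower (S.presheaf.stalk (f (g' x'))) (X.presheaf.stalk (g' x')) (St.obj C.X₂) :=
        IsScalarTower.of_compHom _ _ _
      haveI : IsScalarTower (S.presheaf.stalk (f (g' x'))) (X.presheaf.stalk (g' x')) (St.obj C.X₃) :=
        IsScalarTower.of_compHom _ _ _
      haveI : Module.Flat (S.presheaf.stalk (f (g' x'))) (St.obj C.X₃) := h₃ (g' x')
      have hx := hC.map_of_exact St
      have hinj := lTensor_injective_pushout (R := S.presheaf.stalk (f (g' x'))) (R' := S'.presheaf.stalk (f' x'))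
        (T := ↑(pushout a b)) (O := X'.presheaf.stalk x') (St.map C.f).hom (St.map C.g).hom
        ((ModuleCat.mono_iff_injective _).1 hx.mono_f) ((ModuleCat.epi_iff_surjective _).1 hx.epi_g)
        ((ShortComplex.ShortExact.moduleCat_exact_iff_function_exact _).1 hx.exact)
      haveI : Mono ((ModuleCat.extendScalars (g'.stalkMap x').hom).map (St.map C.f)) :=
        (ModuleCat.mono_iff_injective _).2 hinj
      exact ((MorphismProperty.monomorphisms (ModuleCat _)).arrow_mk_iso_iff
          (Arrow.isoMk ((ModStalk.pullbackStalkIso g' x').app C.X₁) ((ModStalk.pullbackStalkIso g' x').app C.X₂)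
            ((ModStalk.pullbackStalkIso g' x').hom.naturality C.f).symm)).2 ‹_›
    refine Preadditive.mono_of_isZero_kernel _ (ModStalk.isZero_of_stalks fun x' => ?_)
    haveI := hst x'
    exact (isZero_kernel_of_mono ((DerSch.stalkFunctor X' x').map ((Scheme.Modules.pullback g').map C.f))).of_iso
      (PreservesKernel.iso (DerSch.stalkFunctor X' x') ((Scheme.Modules.pullback g').map C.f))
  exact { exact := hex, mono_f := hm }

include hc in
/-- Base change preserves acyclicity of bounded above complexes of modules flat over the base. -/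
theorem exactAt_pullback_of_flatOver (K : CochainComplex X.Modules ℤ) (b : ℤ) (hb : ∀ n, b < n → IsZero (K.X n))
    (hq : ∀ n, Coh.IsQCoh (K.X n)) (hfl : ∀ n, FlatMod.IsFlatOver f (K.X n))
    (hK : ∀ n, K.ExactAt n) (n : ℤ) :
    (((Scheme.Modules.pullback g').mapHomologicalComplex (ComplexShape.up ℤ)).obj K).ExactAt n := by
  let P := Scheme.Modules.pullback g'
  have hs : ∀ n m : ℤ, n + 1 = m → ∃ hw,
      (ShortComplex.mk (P.map (K.iCycles n)) (P.map (K.toCycles n m)) hw).ShortExact := fun n m hnm =>
    ⟨_, shortExact_pullback_of_flatOver hc _ (DQCoh.FlatAdm17.cycles_ses K hK n m hnm)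
      (DQCoh.FlatAdm17.cycles_good f K b hb hq hfl hK m).2⟩
  obtain ⟨_, h₀⟩ := hs (n - 1) n (by omega)
  obtain ⟨w₁, h₁⟩ := hs n (n + 1) rfl
  obtain ⟨_, h₂⟩ := hs (n + 1) (n + 2) (by omega)
  rw [HomologicalComplex.exactAt_iff' _ (n - 1) n (n + 1) (by simp) (by simp)]
  let S₁ := ShortComplex.mk (P.map (K.d (n - 1) n)) (P.map (K.toCycles n (n + 1))) (by
    rw [← P.map_comp, ← K.toCycles_i (n - 1) n, Category.assoc, DQCoh.FlatAdm17.toCycles_iCycles_zero, comp_zero,
      P.map_zero])
  let α : S₁ ⟶ ShortComplex.mk (P.map (K.iCycles n)) (P.map (K.toCycles n (n + 1))) w₁ :=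
    { τ₁ := P.map (K.toCycles (n - 1) n)
      τ₂ := 𝟙 _
      τ₃ := 𝟙 _
      comm₁₂ := by rw [Category.comp_id, ← P.map_comp, K.toCycles_i] }
  haveI : Epi α.τ₁ := h₀.epi_g
  have h1 : S₁.Exact := (ShortComplex.exact_iff_of_epi_of_isIso_of_mono α).2 h₁.exact
  let β : S₁ ⟶ ((P.mapHomologicalComplex (ComplexShape.up ℤ)).obj K).sc' (n - 1) n (n + 1) :=
    { τ₁ := 𝟙 _
      τ₂ := 𝟙 _
      τ₃ := P.map (K.iCycles (n + 1))
      comm₁₂ := (Category.id_comp _).trans (Category.comp_id _).symm
      comm₂₃ := by
        show 𝟙 _ ≫ P.map (K.d n (n + 1)) = P.map (K.toCycles n (n + 1)) ≫ P.map (K.iCycles (n + 1))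
        rw [Category.id_comp, ← P.map_comp, K.toCycles_i] }
  haveI : Mono β.τ₃ := h₂.mono_f
  exact (ShortComplex.exact_iff_of_epi_of_isIso_of_mono β).1 h1

end Groth.Agent.HTor16
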