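import Groth.Agent.CommAlg4.DerivedLES
import Groth.Prelude.Def_DRing2
import Mathlib.Algebra.Category.ModuleCat.Monoidal.Closed

/-! Dimension shifting for `Tor` of modules. -/

set_option autoImplicit false
set_option backward.isDefEq.respectTransparency false
universe u

open CategoryTheory CategoryTheory.Limits MonoidalCategory TensorProduct

namespace Groth.Agent.HTor16

variable {A : Type u} [CommRing A]

/-- `h ⊗ -`. -/
noncomputable abbrev tens (h : ModuleCat.{u} A) : ModuleCat.{u} A ⥤ ModuleCat.{u} A :=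
  (tensoringLeft (ModuleCat.{u} A)).obj h

lemma tens_preserves (h : ModuleCat.{u} A) : PreservesFiniteColimits (tens h) := by
  haveI : PreservesColimitsOfSize.{0, 0} (tensorLeft h) := inferInstance
  exact inferInstanceAs (PreservesFiniteColimits (tensorLeft h))

lemma torShift (h : ModuleCat.{u} A) {S : ShortComplex (ModuleCat.{u} A)} (hS : S.ShortExact)
    [Projective S.X₂] (p : ℕ) :
    Nonempty (DRing.Tor A (p + 2) h S.X₃ ≃ₗ[A] DRing.Tor A (p + 1) h S.X₁) := by
  obtain ⟨-, δ, w₁, w₂, e₁, e₂⟩ := CommAlg4.DerivedLES.les hS (tens h) (p + 1)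
  have hz : ∀ q : ℕ, IsZero (((tens h).leftDerived (q + 1)).obj S.X₂) := fun q =>
    Functor.isZero_leftDerived_obj_projective_succ (tens h) q S.X₂
  haveI : Mono δ := e₁.mono_g ((hz (p + 1)).eq_of_src _ _)
  haveI : Epi δ := e₂.epi_f ((hz p).eq_of_tgt _ _)
  haveI : IsIso δ := isIso_of_mono_of_epi δ
  exact ⟨(asIso δ).toLinearEquiv⟩

lemma torOne (h : ModuleCat.{u} A) {S : ShortComplex (ModuleCat.{u} A)} (hS : S.ShortExact)
    [Projective S.X₂] :
    Nonempty (DRing.Tor A 1 h S.X₃ ≃ₗ[A] LinearMap.ker (S.f.hom.lTensor h)) := by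
  haveI := tens_preserves h
  obtain ⟨-, δ, w₁, w₂, e₁, e₂⟩ := CommAlg4.DerivedLES.les hS (tens h) 0
  haveI : Mono δ := e₁.mono_g ((Functor.isZero_leftDerived_obj_projective_succ (tens h) 0 S.X₂).eq_of_src _ _)
  let z := (tens h).leftDerivedZeroIsoSelf
  let ψ : DRing.Tor A 1 h S.X₃ →ₗ[A] TensorProduct A h S.X₁ := (δ ≫ z.hom.app S.X₁).hom
  have hn : ∀ y, S.f.hom.lTensor h (z.hom.app S.X₁ y) = z.hom.app S.X₂ (((tens h).leftDerived 0).map S.f y) :=
    fun y => (ConcreteCategory.congr_hom (z.hom.naturality S.f) y).symm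
  have hψ : ∀ x, S.f.hom.lTensor h (ψ x) = 0 := fun x => (hn (δ x)).trans
    ((congrArg (z.hom.app S.X₂) (ConcreteCategory.congr_hom w₂ x)).trans (map_zero _))
  have hiso : ∀ X, Function.Bijective (z.hom.app X) := fun X => (z.app X).toLinearEquiv.bijective
  refine ⟨LinearEquiv.ofBijective (ψ.codRestrict _ hψ) ⟨fun x y e => ?_, fun y => ?_⟩⟩
  · exact (ModuleCat.mono_iff_injective δ).1 inferInstance ((hiso _).1 (congrArg Subtype.val e))
  · obtain ⟨y', hy'⟩ := (hiso S.X₁).2 y.1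
    have h0 : ((tens h).leftDerived 0).map S.f y' = 0 := (hiso _).1
      ((hn y').symm.trans ((congrArg _ hy').trans ((LinearMap.mem_ker.1 y.2).trans (map_zero _).symm)))
    obtain ⟨x, hx⟩ := (ShortComplex.moduleCat_exact_iff _).1 e₂ y' h0
    exact ⟨x, Subtype.ext ((congrArg (z.hom.app S.X₁) hx).trans hy')⟩

lemma torZero (h X : ModuleCat.{u} A) : Nonempty (DRing.Tor A 0 h X ≃ₗ[A] TensorProduct A h X) := by
  haveI := tens_preserves h
  exact ⟨((tens h).leftDerivedZeroIsoSelf.app X).toLinearEquiv⟩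

end Groth.Agent.HTor16
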