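import Groth.Agent.Dual22Lib.ProjQCoh
import Groth.Agent.DQCoh.Local

/-!
# The projection formula for the pullback of a K-flat complex
-/

set_option autoImplicit false
set_option backward.isDefEq.respectTransparency false
set_option backward.defeqAttrib.useBackward true
set_option linter.style.haveILetI false

universe u

open CategoryTheory CategoryTheory.Limits AlgebraicGeometry
open Groth.Agent.DCat

attribute [local instance] HasDerivedCategory.standard

namespace Groth.Agent.HTor16

theorem nonempty_projection_pull {X Y : Scheme.{u}} (f : X ⟶ Y) [QuasiCompact f] [QuasiSeparated f]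
    [DCoh.HasRpush f] [DCoh.HasLpull f] (E : DCoh.D X) (hE : DCoh.IsQCohD E) (K : CochainComplex Y.Modules ℤ)
    (hKk : IsKFlatFor (shT Y) K) (hK : DCoh.IsQCohD (DerivedCategory.Q.obj K)) [DCoh.HasLTensorCx K]
    [DCoh.HasLTensorCx (((Scheme.Modules.pullback f).mapHomologicalComplex (ComplexShape.up ℤ)).obj K)] :
    Nonempty ((DCoh.LTensorCx K).obj ((DCoh.Rpush f).obj E) ≅ (DCoh.Rpush f).obj
      ((DCoh.LTensorCx (((Scheme.Modules.pullback f).mapHomologicalComplex (ComplexShape.up ℤ)).obj K)).obj E)) :=
  Dual22Lib.ProjQCoh.nonempty_projection_qcoh f E hE K hK _ ⟨(PullPerf.lpullIso f hKk).symm⟩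

end Groth.Agent.HTor16
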