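import Groth.Prelude.Def_HTor
import Groth.Agent.CycLib28.LTensorCoh
import Groth.Agent.CycLib28.InterPull
import Groth.Agent.DCat.FlatPull

/-!
# Coherence of the local hypertor sheaves of a flat morphism
-/

set_option autoImplicit false
set_option backward.isDefEq.respectTransparency false
set_option backward.defeqAttrib.useBackward true
set_option linter.style.haveILetI false
set_option synthInstance.maxHeartbeats 100000

universe u

open CategoryTheory CategoryTheory.Limits AlgebraicGeometry
open Groth.Agent.DQCoh Groth.Agent.DCat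

attribute [local instance] HasDerivedCategory.standard
attribute [-instance] Int.instConditionallyCompleteLinearOrder

namespace Groth.Agent.HTor16

theorem isCoh_congr {X : Scheme.{u}} {M N : X.Modules} (e : M ≅ N) (h : Coh.IsCoh M) : Coh.IsCoh N :=
  ⟨Coherent.isQCoh_of_iso e (h := h.1), Coherent.isFT_of_epi e.hom h.2⟩

variable {X Y S : Scheme.{u}} (f : X ⟶ S) (g : Y ⟶ S) [Flat f]

/-- Derived pullback preserves bounded above coherent objects between locally Noetherian schemes. -/
theorem isCohD_Lpull {Z : Scheme.{u}} [IsLocallyNoetherian X] [IsLocallyNoetherian Z] (p : Z ⟶ X)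
    [DCoh.HasLpull p] (K : DCoh.D X) (b : ℤ) [K.IsLE b] (hK : DCoh.IsCohD K) :
    DCoh.IsCohD ((DCoh.Lpull p).obj K) := fun i =>
  isCoh_HD_of_psc _ (isQCohD_Lpull p K fun j => (hK j).1) i
    (PullPerf.isPseudoCoherentD_Lpull p i K (psc_of_isCoh K (fun j => (hK j).1) b i fun j _ => hK j)) i le_rfl

/-- The cohomology sheaves of a flat pullback of a complex. -/
noncomputable def hdPullIso {Z W : Scheme.{u}} (p : Z ⟶ W) [Flat p] (Q : CochainComplex W.Modules ℤ) (i : ℤ) :
    DCoh.HD (DCoh.toD Z ((HTor.pullCx p).obj Q)) i ≅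
      (Scheme.Modules.pullback p).obj (DCoh.HD (DCoh.toD W Q) i) :=
  haveI := DCat.FlatPull.preservesFiniteLimits_pullback p
  (DerivedCategory.homologyFunctorFactors Z.Modules i).app _ ≪≫
    (Q.sc i).mapHomologyIso (Scheme.Modules.pullback p) ≪≫
    (Scheme.Modules.pullback p).mapIso ((DerivedCategory.homologyFunctorFactors W.Modules i).app Q).symm

/-- `L pr₁^* P ⊗^L pr₂^* Q` has coherent cohomology. -/
theorem isCohD_localTor [IsLocallyNoetherian X] [IsLocallyNoetherian (pullback f g)]
    [DCoh.HasLpull (pullback.fst f g)] (K : DCoh.D X) (b : ℤ) [K.IsLE b] (hK : DCoh.IsCohD K)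
    (Q : CochainComplex Y.Modules ℤ) (c : ℤ) [(DCoh.toD Y Q).IsLE c] (hQ : DCoh.IsCohD (DCoh.toD Y Q))
    [DCoh.HasLTensorCx ((HTor.pullCx (pullback.snd f g)).obj Q)] :
    DCoh.IsCohD ((DCoh.LTensorCx ((HTor.pullCx (pullback.snd f g)).obj Q)).obj
      ((DCoh.Lpull (pullback.fst f g)).obj K)) := by
  refine (isCohD_bddAbove_LTensor _ _ (isCohD_Lpull (pullback.fst f g) K b hK)
    ⟨b, (DerivedCategory.isLE_iff _ b).1 (PullPerf.isLE_Lpull (f := pullback.fst f g) K b inferInstance)⟩
    (fun i => isCoh_congr (hdPullIso (pullback.snd f g) Q i).symm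
      (CycLib28.InterSheaf.isCoh_pullback _ (hQ i)))
    ⟨c, fun i hi => ?_⟩).1
  exact ((Scheme.Modules.pullback (pullback.snd f g)).map_isZero
    ((DerivedCategory.isLE_iff (DCoh.toD Y Q) c).1 inferInstance i hi)).of_iso (hdPullIso _ Q i)

theorem isLE_of_isZero_above (Q : CochainComplex X.Modules ℤ) (b : ℤ) (hb : ∀ i, b < i → IsZero (Q.X i)) :
    (DCoh.toD X Q).IsLE b := by
  haveI : Q.IsStrictlyLE b := (CochainComplex.isStrictlyLE_iff Q b).2 hb
  infer_instance

theorem isCohD_inD {F : X.Modules} (hF : Coh.IsCoh F) : DCoh.IsCohD (DCoh.inD X F) := fun j => by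
  by_cases hj : j = 0
  · subst hj
    exact isCoh_congr ((DerivedCategory.singleFunctorCompHomologyFunctorIso X.Modules 0).app F).symm hF
  · refine KZeroLib.isCoh_isZero ?_
    rcases lt_or_gt_of_ne hj with hj | hj
    · exact DerivedCategory.isZero_of_isGE _ 0 j hj
    · exact DerivedCategory.isZero_of_isLE _ 0 j hj

end Groth.Agent.HTor16
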