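import Groth.Agent.HTor16.Filtration
import Groth.Agent.FlatCxLib.Algebra
import Mathlib.RingTheory.Flat.Basic

/-! Vanishing of `Tor` for flat modules and consequences for the Künneth map. -/

set_option autoImplicit false
set_option backward.isDefEq.respectTransparency false
universe u

open CategoryTheory CategoryTheory.Limits MonoidalCategory HomologicalComplex TensorProduct

namespace Groth.Agent.HTor16

variable {A : Type u} [CommRing A]

/-- The tautological surjection from a free module. -/
noncomputable def freeLC (N : ModuleCat.{u} A) : ((N : Type u) →₀ A) →ₗ[A] N :=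
  Finsupp.linearCombination A (id : N → N)

/-- The relations. -/
noncomputable abbrev rel (N : ModuleCat.{u} A) : Submodule A ((N : Type u) →₀ A) := LinearMap.ker (freeLC N)

/-- The standard presentation of a module by a free module. -/
noncomputable abbrev freeSES (N : ModuleCat.{u} A) : ShortComplex (ModuleCat.{u} A) :=
  ShortComplex.mk (X₁ := ModuleCat.of A (rel N)) (X₂ := ModuleCat.of A ((N : Type u) →₀ A)) (X₃ := N)
    (ModuleCat.ofHom (rel N).subtype) (ModuleCat.ofHom (freeLC N))
    (ModuleCat.hom_ext (LinearMap.ext fun x => x.2))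

lemma freeSES_shortExact (N : ModuleCat.{u} A) : (freeSES N).ShortExact where
  exact := (ShortComplex.moduleCat_exact_iff _).2 fun x hx => ⟨⟨x, hx⟩, rfl⟩
  mono_f := (ModuleCat.mono_iff_injective _).2 (rel N).injective_subtype
  epi_g := (ModuleCat.epi_iff_surjective _).2 fun x =>
    ⟨Finsupp.single x 1, (Finsupp.linearCombination_single A _ _).trans (one_smul A x)⟩

lemma freeSES_projective (N : ModuleCat.{u} A) : Projective (freeSES N).X₂ :=
  (IsProjective.iff_projective (R := A) ((N : Type u) →₀ A)).1 inferInstance

lemma tor_subsingleton_of_flat_left (h : ModuleCat.{u} A) [Module.Flat A h] :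
    ∀ (p : ℕ) (N : ModuleCat.{u} A), Subsingleton (DRing.Tor A (p + 1) h N)
  | 0, N => by
    haveI := freeSES_projective N
    obtain ⟨e⟩ := torOne h (freeSES_shortExact N)
    have hi := Module.Flat.lTensor_preserves_injective_linearMap (M := h) (freeSES N).f.hom
      (freeSES_shortExact N).moduleCat_injective_f
    have : Subsingleton (LinearMap.ker ((freeSES N).f.hom.lTensor h)) := by
      rw [LinearMap.ker_eq_bot.2 hi]; infer_instance
    exact e.toEquiv.subsingleton
  | p + 1, N => by
    haveI := freeSES_projective N
    obtain ⟨e⟩ := torShift h (freeSES_shortExact N) p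
    have := tor_subsingleton_of_flat_left h p (freeSES N).X₁
    exact e.toEquiv.subsingleton

lemma tor_subsingleton_of_flat_right (h : ModuleCat.{u} A) :
    ∀ (p : ℕ) (M : ModuleCat.{u} A) [Module.Flat A M], Subsingleton (DRing.Tor A (p + 1) h M)
  | p, M, _ => by
    have hS := freeSES_shortExact M
    haveI := freeSES_projective M
    have hF : Module.Flat A (freeSES M).X₂ := inferInstanceAs (Module.Flat A ((M : Type u) →₀ A))
    have hM : Module.Flat A (freeSES M).X₃ := inferInstanceAs (Module.Flat A M)
    have hex := LinearMap.exact_iff.2 hS.exact.moduleCat_range_eq_ker.symm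
    haveI : Module.Flat A (freeSES M).X₁ := FlatCxLib.flat_of_exact_left (freeSES M).f.hom (freeSES M).g.hom
      hex hS.moduleCat_surjective_g hS.moduleCat_injective_f
    cases p with
    | zero =>
      obtain ⟨e⟩ := torOne h hS
      have hi : Function.Injective ((freeSES M).f.hom.lTensor h) :=
        LinearMap.lTensor_injective_of_exact_of_flat (freeSES M).g.hom hS.moduleCat_surjective_g
          (freeSES M).f.hom hS.moduleCat_injective_f hex h
      have : Subsingleton (LinearMap.ker ((freeSES M).f.hom.lTensor h)) := by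
        rw [LinearMap.ker_eq_bot.2 hi]; infer_instance
      exact e.toEquiv.subsingleton
    | succ q =>
      obtain ⟨e⟩ := torShift h hS q
      have := tor_subsingleton_of_flat_right h q (freeSES M).X₁
      exact e.toEquiv.subsingleton

variable {L : DRing.Cx A} (hL : DRing.TermwiseFlat L) {bL : ℤ} (hbL : DRing.VanishesAbove L bL)

include hL hbL in
lemma range_Φ_eq_top (M : DRing.Cx A) {b : ℤ} (hb : DRing.VanishesAbove M b) (n : ℤ)
    (h : ∀ p : ℕ, Subsingleton (HTor.TorSum L M n (p + 1))) : LinearMap.range (Φ L M n) = ⊤ := by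
  have hs : ∀ p, F hL p M n ≤ F hL 0 M n := by
    intro p
    induction p with
    | zero => exact le_rfl
    | succ p ih =>
      refine le_trans (fun x hx => ?_) ih
      have := h p
      haveI := isSubquotient_subsingleton (subquotient hL p M n)
      change (⟨x, hx⟩ : F hL (p + 1) M n) ∈ (F hL p M n).comap (F hL (p + 1) M n).subtype
      exact (Submodule.Quotient.mk_eq_zero _).1
        (Subsingleton.elim _ (0 : HTor.grSucc (fun q => F hL q M n) p))
  refine eq_top_iff.2 ((F_eq_top hL hbL ((bL + b - n).toNat + 1) M n b hb ?_).ge.trans (hs _))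
  push_cast
  omega

include hL hbL in
lemma Φ_bijective_of_flat_homology (hH : ∀ i : ℤ, Module.Flat A (L.homology i)) (M : DRing.Cx A) {b : ℤ}
    (hb : DRing.VanishesAbove M b) (n : ℤ) : Function.Bijective (Φ L M n) := by
  classical
  have hsurj : ∀ (M : DRing.Cx A), DRing.VanishesAbove M b → Function.Surjective (Φ L M n) := fun M hb =>
    LinearMap.range_eq_top.1 (range_Φ_eq_top hL hbL M hb n fun p =>
      ⟨fun x y => DFinsupp.ext fun ij => by
        have := hH ij.1.1
        have := tor_subsingleton_of_flat_left (L.homology ij.1.1) p (M.homology ij.1.2)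
        exact Subsingleton.elim _ _⟩)
  refine ⟨(injective_iff_map_eq_zero _).2 fun t ht => ?_, hsurj M hb⟩
  obtain ⟨s, rfl⟩ := KSmap_resG_surjective M n t
  rw [Φ_natural] at ht
  obtain ⟨u, hu⟩ := (ShortComplex.moduleCat_exact_iff _).1
    ((tS_shortExact L hL (resS_shortExact (Q := M))).homology_exact₂ n) _ ht
  obtain ⟨v, rfl⟩ := hsurj (K₁ M) (res_vanishes b hb).2 u
  have hs : KSmap L (kernel.ι (resG M)) n v = s := (Φ_bijective_res L n).1 ((Φ_natural L _ n v).trans hu)
  rw [← hs]
  refine DFinsupp.ext fun ij => ?_
  change (HomologicalComplex.homologyMap (resG M) ij.1.2).hom.lTensor _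
    ((HomologicalComplex.homologyMap (kernel.ι (resG M)) ij.1.2).hom.lTensor _ (v ij)) = 0
  rw [← LinearMap.lTensor_comp_apply, ← ModuleCat.hom_comp, ← HomologicalComplex.homologyMap_comp,
    kernel.condition, HomologicalComplex.homologyMap_zero]
  simp

include hL hbL in
lemma homology_isZero (M : DRing.Cx A) {b : ℤ} (hb : DRing.VanishesAbove M b) (n : ℤ)
    (h : ∀ (p : ℕ) (i j : ℤ), i + j - p = n → Subsingleton (DRing.Tor A p (L.homology i) (M.homology j))) :
    IsZero ((HTor.tensorCx L M).homology n) := by
  classical
  have : Subsingleton (HTor.KunnethSum L M n) := ⟨fun x y => DFinsupp.ext fun ij => by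
    have := h 0 ij.1.1 ij.1.2 (by have := ij.2; simpa using this)
    obtain ⟨e⟩ := torZero (L.homology ij.1.1) (M.homology ij.1.2)
    have := e.toEquiv.symm.subsingleton
    exact Subsingleton.elim _ _⟩
  have ht := range_Φ_eq_top hL hbL M hb n fun p => ⟨fun x y => DFinsupp.ext fun ij => by
    have := h (p + 1) ij.1.1 ij.1.2 ij.2
    exact Subsingleton.elim _ _⟩
  rw [ModuleCat.isZero_iff_subsingleton]
  exact (LinearMap.range_eq_top.1 ht).subsingleton

end Groth.Agent.HTor16
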