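import Groth.Agent.HTor16.RGammaQcoh
import Groth.Agent.DQCoh.PerfFlatBC17
import Groth.Agent.Flatn12.PullbackSections

/-!
# `RΓ` and base change of the affine base
-/

set_option autoImplicit false
set_option backward.isDefEq.respectTransparency false
set_option backward.defeqAttrib.useBackward true
set_option linter.style.haveILetI false
set_option synthInstance.maxHeartbeats 100000
set_option maxHeartbeats 800000

universe u

open CategoryTheory CategoryTheory.Limits AlgebraicGeometry
open Groth.Agent.DCat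

attribute [local instance] HasDerivedCategory.standard
attribute [-instance] Int.instConditionallyCompleteLinearOrder

namespace Groth.Agent.HTor16

section Affine

variable {R S : CommRingCat.{u}}

/-- `Γ(K)~ ≅ K` for a complex of quasi-coherent modules. -/
noncomputable def tildeΓCxIso [(moduleSpecΓFunctor (R := R)).Additive] (K : CochainComplex (Spec R).Modules ℤ)
    (hK : ∀ n, Coh.IsQCoh (K.X n)) :
    ((tilde.functor R).mapHomologicalComplex (ComplexShape.up ℤ)).obj
      (((moduleSpecΓFunctor (R := R)).mapHomologicalComplex (ComplexShape.up ℤ)).obj K) ≅ K :=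
  HomologicalComplex.Hom.isoOfComponents
    (fun n => @asIso _ _ _ _ ((tilde.adjunction (R := R)).counit.app (K.X n))
      ((isQuasicoherent_iff_isIso_fromTildeΓ _).1 (hK n)))
    fun i j _ => ((tilde.adjunction (R := R)).counit.naturality (K.d i j)).symm

/-- `γ^*(L~) ≅ (L ⊗ S)~` on complexes. -/
noncomputable def tildePullCxIso (φ : R ⟶ S) [(ModuleCat.extendScalars φ.hom).Additive]
    (L : CochainComplex (ModuleCat.{u} R) ℤ) :
    ((Scheme.Modules.pullback (Spec.map φ)).mapHomologicalComplex (ComplexShape.up ℤ)).obj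
        (((tilde.functor R).mapHomologicalComplex (ComplexShape.up ℤ)).obj L) ≅
      ((tilde.functor S).mapHomologicalComplex (ComplexShape.up ℤ)).obj
        (((ModuleCat.extendScalars φ.hom).mapHomologicalComplex (ComplexShape.up ℤ)).obj L) :=
  HomologicalComplex.Hom.isoOfComponents (fun n => (Flatn12.tildePullbackIso φ).app (L.X n))
    fun i j _ => ((Flatn12.tildePullbackIso φ).hom.naturality (L.d i j)).symm

end Affine

variable {A A' : Type u} [CommRing A] [CommRing A'] (φ : A →+* A') {X X' : Scheme.{u}}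
  (f : X ⟶ Spec (CommRingCat.of A)) (f' : X' ⟶ Spec (CommRingCat.of A')) (g : X' ⟶ X)
  (h : IsPullback g f' f (Spec.map (CommRingCat.ofHom φ)))
  [QuasiCompact f] [IsSeparated f] [QuasiCompact f'] [IsSeparated f'] [HTor.HasRΓA f] [HTor.HasRΓA f']

include h in
/-- A bounded above projective complex computing `RΓ(X, P)` computes, after base change, `RΓ(X', P')`. -/
theorem computes_baseChange (P : CochainComplex X.Modules ℤ) (hq : ∀ i : ℤ, Coh.IsQCoh (P.X i))
    (b : ℤ) (hb : ∀ i : ℤ, b < i → IsZero (P.X i)) (hfl : ∀ i : ℤ, FlatMod.IsFlatOver f (P.X i))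
    (L : DRing.Cx A) (hL : ∀ i : ℤ, Projective (L.X i)) (c : ℤ) (hc : DRing.VanishesAbove L c)
    (e : HTor.Computes f L (DCoh.toD X P)) :
    HTor.Computes f' (CohIII.bcCx φ L)
      (DCoh.toD _ (((Scheme.Modules.pullback g).mapHomologicalComplex (ComplexShape.up ℤ)).obj P)) := by
  haveI := Coherent.hasInjectiveResolutions_modules X
  haveI := Coherent.hasInjectiveResolutions_modules X'
  haveI : CompactSpace X := QuasiCompact.compactSpace_of_compactSpace f
  letI : X.Over (Spec (CommRingCat.of A)) := ⟨f⟩
  letI : X'.Over (Spec (CommRingCat.of A')) := ⟨f'⟩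
  haveI : IsSeparated (X ↘ Spec (CommRingCat.of A)) := ‹IsSeparated f›
  let R := CommRingCat.of A
  let R' := CommRingCat.of A'
  let γ := Spec.map (CommRingCat.ofHom φ)
  haveI : PreservesFiniteLimits (tilde.functor R) := AffSchLib.preservesFiniteLimits_tilde R
  haveI : PreservesFiniteLimits (tilde.functor R') := AffSchLib.preservesFiniteLimits_tilde R'
  haveI : PreservesFiniteColimits (tilde.functor R) :=
    haveI := (tilde.adjunction (R := R)).leftAdjoint_preservesColimits
    inferInstance
  haveI : PreservesFiniteColimits (tilde.functor R') :=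
    haveI := (tilde.adjunction (R := R')).leftAdjoint_preservesColimits
    inferInstance
  haveI : (moduleSpecΓFunctor (R := R)).Additive := Adjunction.right_adjoint_additive tilde.adjunction
  haveI : (moduleSpecΓFunctor (R := R')).Additive := Adjunction.right_adjoint_additive tilde.adjunction
  obtain ⟨C, d, hgood, hCd, ⟨eC⟩, ⟨eC'⟩⟩ := DQCoh.CechFlat17.exists_good_resolution
    (φ := φ) (g := g) (h := h) P b hb hq hfl
  obtain ⟨eL⟩ := e
  have hgood' : ∀ n, DQCoh.BCPush17.Good f γ f' g h (C.X n) := hgood
  obtain ⟨e₁⟩ := nonempty_rΓA_acyclic f C (fun n => (hgood' n).qcoh) fun n i hi => (hgood' n).acy i hi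
  let C' := ((Scheme.Modules.pullback g).mapHomologicalComplex (ComplexShape.up ℤ)).obj C
  have hC'q : ∀ n, Coh.IsQCoh (C'.X n) := fun n =>
    haveI := (hgood' n).qcoh
    EGA43.InjFibre.isQCoh_pullback g (C.X n)
  obtain ⟨e₂⟩ := nonempty_rΓA_acyclic f' C' hC'q fun n i hi => (hgood' n).acy' i hi
  let K := ((Scheme.Modules.pushforward f).mapHomologicalComplex (ComplexShape.up ℤ)).obj C
  let K' := ((Scheme.Modules.pushforward f').mapHomologicalComplex (ComplexShape.up ℤ)).obj C'
  let M := ((HTor.globalSectionsA f).mapHomologicalComplex (ComplexShape.up ℤ)).obj C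
  let M' := ((HTor.globalSectionsA f').mapHomologicalComplex (ComplexShape.up ℤ)).obj C'
  let c₁ : ((tilde.functor R).mapHomologicalComplex (ComplexShape.up ℤ)).obj M ≅ K :=
    tildeΓCxIso K fun n => haveI := (hgood' n).qcoh; Coherent.isQCoh_push f (C.X n)
  let c₂ : ((tilde.functor R').mapHomologicalComplex (ComplexShape.up ℤ)).obj M' ≅ K' :=
    tildeΓCxIso K' fun n => haveI := hC'q n; Coherent.isQCoh_push f' (C'.X n)
  let u : ((Scheme.Modules.pullback γ).mapHomologicalComplex (ComplexShape.up ℤ)).obj K ≅ K' :=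
    HomologicalComplex.Hom.isoOfComponents
      (fun n => @asIso _ _ _ _ ((DQCoh.BCPush17.bcNat f γ f' g h.w).app (C.X n)) (hgood' n).bc)
      fun i j _ => ((DQCoh.BCPush17.bcNat f γ f' g h.w).naturality (C.d i j)).symm
  haveI := hasLpull γ
  have hk : IsKFlatFor (shT _) K :=
    isKFlatFor_sheaf_of_flat _ d (fun n hn => (Scheme.Modules.pushforward f).map_isZero (hCd n hn))
      fun n => (hgood' n).flatPush
  have hkL : IsKFlatFor (shT _) (((tilde.functor R).mapHomologicalComplex (ComplexShape.up ℤ)).obj L) :=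
    isKFlat_tilde (R := R) L (isKFlatFor_of_flat L c hc fun n => by
      haveI : Module.Projective A (L.X n) := (IsProjective.iff_projective _).2 (hL n)
      infer_instance)
  let v : DerivedCategory.Q.obj (((tilde.functor R).mapHomologicalComplex (ComplexShape.up ℤ)).obj L) ≅
      DerivedCategory.Q.obj K :=
    ((tilde.functor R).mapDerivedCategoryFactors.app L).symm ≪≫
      (tilde.functor R).mapDerivedCategory.mapIso (eL ≪≫ (HTor.RΓA f).mapIso eC ≪≫ e₁) ≪≫
      (tilde.functor R).mapDerivedCategoryFactors.app M ≪≫ DerivedCategory.Q.mapIso c₁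
  let w : DerivedCategory.Q.obj (((tilde.functor R').mapHomologicalComplex (ComplexShape.up ℤ)).obj (CohIII.bcCx φ L)) ≅
      DerivedCategory.Q.obj (((tilde.functor R').mapHomologicalComplex (ComplexShape.up ℤ)).obj M') :=
    (DerivedCategory.Q.mapIso (tildePullCxIso (CommRingCat.ofHom φ) L)).symm ≪≫ (PullPerf.lpullIso γ hkL).symm ≪≫
      (DCoh.Lpull γ).mapIso v ≪≫ PullPerf.lpullIso γ hk ≪≫ DerivedCategory.Q.mapIso u ≪≫
      (DerivedCategory.Q.mapIso c₂).symm
  obtain ⟨_, _, _⟩ := DQCoh.tildeD_main R'
  exact ⟨(DCoh.tildeD R').preimageIso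
      ((tilde.functor R').mapDerivedCategoryFactors.app _ ≪≫ w ≪≫
        ((tilde.functor R').mapDerivedCategoryFactors.app M').symm) ≪≫
    e₂.symm ≪≫ (HTor.RΓA f').mapIso eC'.symm⟩

end Groth.Agent.HTor16
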