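import Groth.Prelude.Def_DRing2
import Mathlib.Algebra.Category.ModuleCat.EpiMono
import Mathlib.Algebra.Homology.ShortComplex.ModuleCat
import Mathlib.Algebra.Category.ModuleCat.Abelian
import Mathlib.Algebra.Homology.HomologySequence

/-! Classes of cocycles of a complex of modules, element by element. -/

set_option autoImplicit false
universe u

open CategoryTheory CategoryTheory.Limits

namespace Groth.Agent.HTor16

variable {A : Type u} [CommRing A]

/-- Descend a linear map along a surjection. -/
noncomputable def descend {M N P : Type u} [AddCommGroup M] [Module A M] [AddCommGroup N] [Module A N]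
    [AddCommGroup P] [Module A P] (p : M →ₗ[A] N) (hp : Function.Surjective p) (f : M →ₗ[A] P)
    (h : LinearMap.ker p ≤ LinearMap.ker f) : N →ₗ[A] P :=
  Submodule.liftQ _ f h ∘ₗ (p.quotKerEquivOfSurjective hp).symm.toLinearMap

lemma descend_apply {M N P : Type u} [AddCommGroup M] [Module A M] [AddCommGroup N] [Module A N]
    [AddCommGroup P] [Module A P] (p : M →ₗ[A] N) (hp : Function.Surjective p) (f : M →ₗ[A] P)
    (h : LinearMap.ker p ≤ LinearMap.ker f) (x : M) : descend p hp f h (p x) = f x := by
  have : (p.quotKerEquivOfSurjective hp).symm (p x) = Submodule.Quotient.mk x :=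
    (p.quotKerEquivOfSurjective hp).symm_apply_eq.2 rfl
  change Submodule.liftQ _ f h ((p.quotKerEquivOfSurjective hp).symm (p x)) = f x
  rw [this]; rfl

variable (K K' : CochainComplex (ModuleCat.{u} A) ℤ) (n : ℤ)

/-- The module of cocycles in degree `n`. -/
abbrev Z : Submodule A (K.X n) := LinearMap.ker (K.d n (n + 1)).hom

/-- A cocycle as an element of `K.cycles n`. -/
noncomputable def mkC : ModuleCat.of A (Z K n) ⟶ K.cycles n :=
  K.liftCycles (ModuleCat.ofHom (Z K n).subtype) (n + 1) (CochainComplex.next ℤ n)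
    (ModuleCat.hom_ext (LinearMap.ext fun x => x.2))

lemma i_mkC (x : Z K n) : K.iCycles n (mkC K n x) = x.1 :=
  ConcreteCategory.congr_hom
    (K.liftCycles_i (ModuleCat.ofHom (Z K n).subtype) (n + 1) (CochainComplex.next ℤ n) _) x

lemma iCycles_injective : Function.Injective (K.iCycles n) :=
  (ModuleCat.mono_iff_injective _).1 inferInstance

lemma iCycles_mem (z : K.cycles n) : K.iCycles n z ∈ Z K n :=
  ConcreteCategory.congr_hom (K.iCycles_d n (n + 1)) z

lemma mkC_surjective : Function.Surjective (mkC K n) := fun z =>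
  ⟨⟨_, iCycles_mem K n z⟩, iCycles_injective K n (i_mkC K n _)⟩

/-- The class of a cocycle. -/
noncomputable def cls : Z K n →ₗ[A] K.homology n := (mkC K n ≫ K.homologyπ n).hom

lemma cls_surjective : Function.Surjective (cls K n) :=
  ((ModuleCat.epi_iff_surjective (K.homologyπ n)).1 inferInstance).comp (mkC_surjective K n)

lemma cls_eq_zero_iff {m : ℤ} (hm : m + 1 = n) (x : Z K n) :
    cls K n x = 0 ↔ ∃ y, K.d m n y = x.1 := by
  have hp : (ComplexShape.up ℤ).prev n = m := (CochainComplex.prev ℤ n).trans (by omega)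
  have hex := ShortComplex.exact_of_g_is_cokernel
    (ShortComplex.mk (K.toCycles m n) (K.homologyπ n) (K.toCycles_comp_homologyπ m n))
    (K.homologyIsCokernel m n hp)
  rw [ShortComplex.moduleCat_exact_iff] at hex
  constructor
  · intro h
    obtain ⟨y, hy⟩ := hex (mkC K n x) h
    exact ⟨y, (ConcreteCategory.congr_hom (K.toCycles_i m n) y).symm.trans
      ((congrArg (K.iCycles n) hy).trans (i_mkC K n x))⟩
  · rintro ⟨y, hy⟩
    have : mkC K n x = K.toCycles m n y := iCycles_injective K n
      ((i_mkC K n x).trans (hy.symm.trans (ConcreteCategory.congr_hom (K.toCycles_i m n) y).symm))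
    change K.homologyπ n (mkC K n x) = 0
    rw [this]
    exact ConcreteCategory.congr_hom (K.toCycles_comp_homologyπ m n) y

lemma cls_eq_cls_iff {m : ℤ} (hm : m + 1 = n) (x x' : Z K n) :
    cls K n x = cls K n x' ↔ ∃ y, K.d m n y = x.1 - x'.1 := by
  rw [← sub_eq_zero, ← map_sub, cls_eq_zero_iff K n hm]; rfl

lemma d_mem_Z (m : ℤ) (y : K.X m) : K.d m n y ∈ Z K n :=
  ConcreteCategory.congr_hom (K.d_comp_d m n (n + 1)) y

variable {K K'}

lemma map_mem_Z (f : K ⟶ K') {x : K.X n} (hx : x ∈ Z K n) : f.f n x ∈ Z K' n := by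
  have h := ConcreteCategory.congr_hom (f.comm n (n + 1)) x
  exact h.trans ((congrArg (f.f (n + 1)) (LinearMap.mem_ker.1 hx)).trans (map_zero _))

/-- The map on cocycles. -/
noncomputable def mapZ (f : K ⟶ K') : Z K n →ₗ[A] Z K' n :=
  (f.f n).hom.restrict fun _ hx => map_mem_Z n f hx

lemma cls_map (f : K ⟶ K') (x : Z K n) :
    HomologicalComplex.homologyMap f n (cls K n x) = cls K' n (mapZ n f x) := by
  refine (ConcreteCategory.congr_hom (HomologicalComplex.homologyπ_naturality f n) (mkC K n x)).trans
    (congrArg (K'.homologyπ n) ?_)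
  refine iCycles_injective K' n ?_
  exact ((ConcreteCategory.congr_hom (HomologicalComplex.cyclesMap_i f n) (mkC K n x)).trans
    (congrArg (f.f n) (i_mkC K n x))).trans (i_mkC K' n (mapZ n f x)).symm

lemma homologyMap_ext {m : ℤ} (hm : m + 1 = n) (f g : K ⟶ K')
    (h : ∀ x : Z K n, ∃ y, K'.d m n y = f.f n x.1 - g.f n x.1) :
    HomologicalComplex.homologyMap f n = HomologicalComplex.homologyMap g n := by
  ext z
  obtain ⟨x, rfl⟩ := cls_surjective K n z
  rw [cls_map, cls_map, cls_eq_cls_iff K' n hm]
  exact h x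

end Groth.Agent.HTor16
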