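import Groth.Agent.HTor16.Kunneth
import Mathlib.LinearAlgebra.Finsupp.LinearCombination
import Mathlib.RingTheory.Flat.Basic

/-! A surjective cover of a complex by a prescribed complex plus contractible free complexes. -/

set_option autoImplicit false
set_option backward.isDefEq.respectTransparency false
universe u

open CategoryTheory CategoryTheory.Limits MonoidalCategory HomologicalComplex TensorProduct

namespace Groth.Agent.HTor16

variable {A : Type u} [CommRing A] {M₀ Q : DRing.Cx A} (η : M₀ ⟶ Q)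

variable (Q) in
/-- Elements which are not cocycles. -/
abbrev NC : Type u := {s : Σ i : ℤ, Q.X i // Q.d s.1 (s.1 + 1) s.2 ≠ 0}

variable (Q) in
abbrev B0 (j : ℤ) : Type u := {s : NC Q // s.1.1 = j} →₀ A

variable (Q) in
abbrev B1 (j : ℤ) : Type u := {s : NC Q // s.1.1 + 1 = j} →₀ A

variable (Q) in
noncomputable def up (j k : ℤ) (h : j + 1 = k) : B0 Q j →ₗ[A] B1 Q k :=
  Finsupp.lmapDomain A A fun s => ⟨s.1, by have := s.2; omega⟩

variable (Q) in
noncomputable def down (j k : ℤ) (h : j + 1 = k) : B1 Q k →ₗ[A] B0 Q j :=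
  Finsupp.lmapDomain A A fun s => ⟨s.1, by have := s.2; omega⟩

lemma up_down (j k : ℤ) (h : j + 1 = k) (q : B1 Q k) : up Q j k h (down Q j k h q) = q := by
  change Finsupp.mapDomain _ (Finsupp.mapDomain _ q) = q
  rw [← Finsupp.mapDomain_comp]
  exact Finsupp.mapDomain_id

lemma down_up (j k : ℤ) (h : j + 1 = k) (q : B0 Q j) : down Q j k h (up Q j k h q) = q := by
  change Finsupp.mapDomain _ (Finsupp.mapDomain _ q) = q
  rw [← Finsupp.mapDomain_comp]
  exact Finsupp.mapDomain_id

variable (M₀ Q)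

noncomputable def covD (j : ℤ) :
    (M₀.X j × B0 Q j × B1 Q j) →ₗ[A] (M₀.X (j + 1) × B0 Q (j + 1) × B1 Q (j + 1)) :=
  ((M₀.d j (j + 1)).hom ∘ₗ LinearMap.fst A _ _).prod
    ((0 : _ →ₗ[A] B0 Q (j + 1)).prod (up Q j (j + 1) rfl ∘ₗ LinearMap.fst A _ _ ∘ₗ LinearMap.snd A _ _))

lemma covD_apply (j : ℤ) (m : M₀.X j) (p : B0 Q j) (q : B1 Q j) :
    covD M₀ Q j (m, p, q) = (M₀.d j (j + 1) m, 0, up Q j (j + 1) rfl p) := rfl

/-- `M₀` plus contractible free complexes mapping onto the non-cocycles of `Q`. -/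
noncomputable def Cov : DRing.Cx A :=
  CochainComplex.of (fun j => ModuleCat.of A (M₀.X j × B0 Q j × B1 Q j))
    (fun j => ModuleCat.ofHom (covD M₀ Q j)) fun j => by
    ext1
    refine LinearMap.ext fun x => ?_
    change covD M₀ Q (j + 1) (covD M₀ Q j x) = 0
    obtain ⟨m, p, q⟩ := x
    rw [covD_apply, covD_apply, map_zero]
    exact Prod.ext (ConcreteCategory.congr_hom (M₀.d_comp_d _ _ _) m) rfl

lemma cov_d (j : ℤ) : (Cov M₀ Q).d j (j + 1) = ModuleCat.ofHom (covD M₀ Q j) :=
  CochainComplex.of_d (fun j => ModuleCat.of A (M₀.X j × B0 Q j × B1 Q j))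
    (fun j => ModuleCat.ofHom (covD M₀ Q j)) j

/-- The inclusion of `M₀`. -/
noncomputable def covS : M₀ ⟶ Cov M₀ Q where
  f j := ModuleCat.ofHom (LinearMap.inl A _ _)
  comm' j k (h : j + 1 = k) := by
    subst h
    rw [cov_d]
    ext1
    refine LinearMap.ext fun m => ?_
    change covD M₀ Q j (m, 0, 0) = (M₀.d j (j + 1) m, 0, 0)
    rw [covD_apply, map_zero]

/-- The projection to `M₀`. -/
noncomputable def covR : Cov M₀ Q ⟶ M₀ where
  f j := ModuleCat.ofHom (LinearMap.fst A _ _)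
  comm' j k (h : j + 1 = k) := by
    subst h
    rw [cov_d]
    rfl

lemma covS_covR : covS M₀ Q ≫ covR M₀ Q = 𝟙 _ := rfl

/-- The contracting homotopy. -/
noncomputable def covH (j k : ℤ) (h : k + 1 = j) : (Cov M₀ Q).X j →ₗ[A] (Cov M₀ Q).X k :=
  (0 : (M₀.X j × B0 Q j × B1 Q j) →ₗ[A] M₀.X k).prod
    ((down Q k j h ∘ₗ LinearMap.snd A (B0 Q j) (B1 Q j) ∘ₗ LinearMap.snd A (M₀.X j) _).prod 0)

lemma covH_spec (j k l : ℤ) (hk : k + 1 = j) (hl : j + 1 = l) (y : (Cov M₀ Q).X j) :
    (𝟙 (Cov M₀ Q) : _ ⟶ _).f j y - (covR M₀ Q ≫ covS M₀ Q).f j y =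
      (Cov M₀ Q).d k j (covH M₀ Q j k hk y) + covH M₀ Q l j hl ((Cov M₀ Q).d j l y) := by
  subst hk hl
  rw [cov_d, cov_d]
  obtain ⟨m, p, q⟩ := y
  change ((m, p, q) - (m, 0, 0) : M₀.X (k + 1) × B0 Q (k + 1) × B1 Q (k + 1)) =
    covD M₀ Q k (0, down Q k (k + 1) rfl q, 0) + (0, down Q (k + 1) (k + 1 + 1) rfl (up Q (k + 1) _ rfl p), 0)
  rw [covD_apply, up_down, down_up, map_zero]
  simp

variable {M₀ Q}

noncomputable def g0 (j : ℤ) : B0 Q j →ₗ[A] Q.X j :=
  Finsupp.linearCombination A fun s => (Q.XIsoOfEq s.2).hom s.1.1.2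

noncomputable def g1 (j : ℤ) : B1 Q j →ₗ[A] Q.X j :=
  Finsupp.linearCombination A fun s => Q.d s.1.1.1 j s.1.1.2

/-- The map onto `Q`. -/
noncomputable def covG : Cov M₀ Q ⟶ Q where
  f j := ModuleCat.ofHom ((η.f j).hom.coprod ((g0 j).coprod (g1 j)))
  comm' j k (h : j + 1 = k) := by
    subst h
    rw [cov_d]
    ext1
    refine LinearMap.ext fun x => ?_
    obtain ⟨m, p, q⟩ := x
    change Q.d j (j + 1) (η.f j m + (g0 j p + g1 j q)) =
      η.f (j + 1) (M₀.d j (j + 1) m) + (g0 (j + 1) 0 + g1 (j + 1) (up Q j (j + 1) rfl p))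
    rw [map_add, map_add, map_zero, zero_add]
    congr 1
    · exact ConcreteCategory.congr_hom (η.comm j (j + 1)) m
    · have hq : Q.d j (j + 1) (g1 j q) = 0 := by
        induction q using Finsupp.induction_linear with
        | zero => simp
        | add a b ha hb => rw [map_add, map_add, ha, hb, add_zero]
        | single s a =>
          rw [g1, Finsupp.linearCombination_single, map_smul]
          exact (congrArg (a • ·) (ConcreteCategory.congr_hom (Q.d_comp_d _ j (j + 1)) _)).trans (smul_zero a)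
      rw [hq, add_zero]
      induction p using Finsupp.induction_linear with
      | zero => simp
      | add a b ha hb => rw [map_add, map_add, map_add, map_add, ha, hb]
      | single s a =>
        obtain ⟨s, hs⟩ := s
        subst hs
        rw [g0, g1, up, Finsupp.lmapDomain_apply, Finsupp.mapDomain_single, Finsupp.linearCombination_single,
          Finsupp.linearCombination_single, map_smul]
        rfl

lemma covS_covG : covS M₀ Q ≫ covG η = η := by
  ext j : 2
  refine LinearMap.ext fun m => ?_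
  change η.f j m + (g0 j 0 + g1 j 0) = η.f j m
  simp

lemma covG_surjective (hη : ∀ (j : ℤ) (y : Z Q j), ∃ m w, y.1 = η.f j m + Q.d (j - 1) j w) (j : ℤ) :
    Function.Surjective ((covG η).f j) := by
  intro y
  by_cases hy : Q.d j (j + 1) y = 0
  · obtain ⟨m, w, hw⟩ := hη j ⟨y, hy⟩
    by_cases hd : Q.d (j - 1) j w = 0
    · refine ⟨(m, 0, 0), ?_⟩
      change η.f j m + (g0 j 0 + g1 j 0) = y
      rw [show y = η.f j m + 0 from hd ▸ hw]
      simp
    · have hne : Q.d (j - 1) (j - 1 + 1) w ≠ 0 := fun h => hd (by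
        have : ∀ q, q = j → Q.d (j - 1) q w = 0 → Q.d (j - 1) j w = 0 := by rintro q rfl; exact id
        exact this _ (by omega) h)
      refine ⟨(m, 0, Finsupp.single ⟨⟨⟨j - 1, w⟩, hne⟩, by simp⟩ 1), ?_⟩
      change η.f j m + (g0 j 0 + g1 j (Finsupp.single _ 1)) = y
      rw [show y = η.f j m + Q.d (j - 1) j w from hw, g1, Finsupp.linearCombination_single]
      simp
  · refine ⟨(0, Finsupp.single ⟨⟨⟨j, y⟩, hy⟩, rfl⟩ 1, 0), ?_⟩
    change η.f j 0 + (g0 j (Finsupp.single _ 1) + g1 j 0) = y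
    rw [g0, Finsupp.linearCombination_single]
    simp

lemma cov_isZero (b : ℤ) (h₀ : DRing.VanishesAbove M₀ b) (h : DRing.VanishesAbove Q b) :
    DRing.VanishesAbove (Cov M₀ Q) b := by
  intro j hj
  have := ModuleCat.isZero_iff_subsingleton.1 (h₀ j hj)
  have := ModuleCat.isZero_iff_subsingleton.1 (h j hj)
  have : IsEmpty {s : NC Q // s.1.1 = j} := ⟨fun ⟨⟨⟨i, x⟩, hx⟩, hi⟩ => by
    subst hi
    exact hx (by rw [Subsingleton.elim x 0, map_zero])⟩
  have : IsEmpty {s : NC Q // s.1.1 + 1 = j} := ⟨fun ⟨⟨⟨i, x⟩, hx⟩, hi⟩ => by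
    subst hi
    exact hx (Subsingleton.elim _ _)⟩
  exact ModuleCat.isZero_iff_subsingleton.2 (inferInstanceAs (Subsingleton (M₀.X j × B0 Q j × B1 Q j)))

variable (M₀ Q) in
lemma homologyMap_covR_covS (L : DRing.Cx A) (n : ℤ) :
    HomologicalComplex.homologyMap (HomologicalComplex.tensorHom (𝟙 L) (covR M₀ Q)) n ≫
      HomologicalComplex.homologyMap (HomologicalComplex.tensorHom (𝟙 L) (covS M₀ Q)) n = 𝟙 _ := by
  rw [← HomologicalComplex.homologyMap_comp, tensorHom_comp,
    ← homologyMap_tensorHom_eq L (𝟙 _) _ (covH M₀ Q) (covH_spec M₀ Q) n, tensorHom_id,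
    HomologicalComplex.homologyMap_id]

variable (M₀ Q) in
/-- `M₀` and its cover have the same cohomology. -/
noncomputable def covHomologyIso (j : ℤ) : (Cov M₀ Q).homology j ≅ M₀.homology j where
  hom := HomologicalComplex.homologyMap (covR M₀ Q) j
  inv := HomologicalComplex.homologyMap (covS M₀ Q) j
  hom_inv_id := by
    rw [← HomologicalComplex.homologyMap_comp, ← HomologicalComplex.homologyMap_id]
    refine (homologyMap_ext j (m := j - 1) (by omega) _ _ fun x => ⟨covH M₀ Q j (j - 1) (by omega) x.1, ?_⟩).symm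
    rw [covH_spec M₀ Q j (j - 1) (j + 1) (by omega) rfl, LinearMap.mem_ker.1 x.2, map_zero, add_zero]
  inv_hom_id := by rw [← HomologicalComplex.homologyMap_comp, covS_covR, HomologicalComplex.homologyMap_id]

variable (M₀ Q) in
lemma Φ_bijective_cov (L : DRing.Cx A) (n : ℤ) (hΦ : Function.Bijective (Φ L M₀ n)) :
    Function.Bijective (Φ L (Cov M₀ Q) n) := by
  have hs : Function.Bijective (KSmap L (covS M₀ Q) n) := by
    refine ⟨(DFinsupp.mapRange_injective _ fun _ => map_zero _).2 fun ij => ?_,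
      (DFinsupp.mapRange_surjective _ fun _ => map_zero _).2 fun ij => ?_⟩
    · exact (LinearEquiv.lTensor (L.homology ij.1.1) (covHomologyIso M₀ Q ij.1.2).symm.toLinearEquiv).injective
    · exact (LinearEquiv.lTensor (L.homology ij.1.1) (covHomologyIso M₀ Q ij.1.2).symm.toLinearEquiv).surjective
  have hH : Function.Bijective
      (HomologicalComplex.homologyMap (HomologicalComplex.tensorHom (𝟙 L) (covS M₀ Q)) n) := by
    refine Function.bijective_iff_has_inverse.2
      ⟨HomologicalComplex.homologyMap (HomologicalComplex.tensorHom (𝟙 L) (covR M₀ Q)) n, fun x => ?_, fun x => ?_⟩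
    · rw [← ConcreteCategory.comp_apply, ← HomologicalComplex.homologyMap_comp, tensorHom_comp, covS_covR,
        tensorHom_id, HomologicalComplex.homologyMap_id]
      rfl
    · exact ConcreteCategory.congr_hom (homologyMap_covR_covS M₀ Q L n) x
  refine (Function.Bijective.of_comp_iff _ hs).1 ?_
  have : (Φ L (Cov M₀ Q) n ∘ KSmap L (covS M₀ Q) n) =
      HomologicalComplex.homologyMap (HomologicalComplex.tensorHom (𝟙 L) (covS M₀ Q)) n ∘ Φ L M₀ n :=
    funext (Φ_natural L _ n)
  rw [this]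
  exact hH.comp hΦ

variable (Q) in
/-- The free complex with zero differential on the nonzero cocycles. -/
noncomputable def FZ : DRing.Cx A :=
  CochainComplex.of (fun j => ModuleCat.of A ({z : Z Q j // z ≠ 0} →₀ A)) (fun _ => 0) fun _ => zero_comp

lemma FZ_d (a b : ℤ) : (FZ Q).d a b = 0 := by
  by_cases h : a + 1 = b
  · subst h; exact CochainComplex.of_d (fun j => ModuleCat.of A ({z : Z Q j // z ≠ 0} →₀ A)) (fun _ => 0) _
  · exact (FZ Q).shape _ _ h

variable (Q) in
noncomputable def εZ : FZ Q ⟶ Q where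
  f j := ModuleCat.ofHom (Finsupp.linearCombination A fun z : {z : Z Q j // z ≠ 0} => z.1.1)
  comm' j k (h : j + 1 = k) := by
    subst h
    rw [FZ_d, zero_comp]
    ext1
    refine Finsupp.lhom_ext fun z a => ?_
    change Q.d j (j + 1) (Finsupp.linearCombination A _ (Finsupp.single z a)) = 0
    rw [Finsupp.linearCombination_single, map_smul, LinearMap.mem_ker.1 z.1.2, smul_zero]

lemma εZ_cover (j : ℤ) (y : Z Q j) : ∃ m w, y.1 = (εZ Q).f j m + Q.d (j - 1) j w := by
  by_cases hy : y = 0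
  · exact ⟨0, 0, by simp [hy]⟩
  · refine ⟨Finsupp.single ⟨y, hy⟩ 1, 0, ?_⟩
    rw [map_zero, add_zero]
    change y.1 = Finsupp.linearCombination A (fun z : {z : Z Q j // z ≠ 0} => z.1.1) (Finsupp.single ⟨y, hy⟩ 1)
    rw [Finsupp.linearCombination_single, one_smul]

variable (Q) in
/-- The standard cover `Q` is resolved by. -/
noncomputable abbrev Res : DRing.Cx A := Cov (FZ Q) Q

variable (Q) in
noncomputable abbrev resG : Res Q ⟶ Q := covG (εZ Q)

variable (Q) in
/-- The first syzygy complex. -/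
noncomputable abbrev resS : ShortComplex (DRing.Cx A) :=
  ShortComplex.mk (kernel.ι (resG Q)) (resG Q) (kernel.condition _)

lemma resS_shortExact : (resS Q).ShortExact where
  exact := ShortComplex.exact_of_f_is_kernel _ (kernelIsKernel _)
  mono_f := inferInstanceAs (Mono (kernel.ι (resG Q)))
  epi_g := by
    have : ∀ j, Epi ((resG Q).f j) := fun j =>
      (ModuleCat.epi_iff_surjective _).2 (covG_surjective _ εZ_cover j)
    exact HomologicalComplex.epi_of_epi_f _ this

lemma res_vanishes (b : ℤ) (h : DRing.VanishesAbove Q b) :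
    DRing.VanishesAbove (Res Q) b ∧ DRing.VanishesAbove (kernel (resG Q)) b := by
  have hR : DRing.VanishesAbove (Res Q) b := by
    refine cov_isZero b (fun j hj => ?_) h
    have := ModuleCat.isZero_iff_subsingleton.1 (h j hj)
    have : IsEmpty {z : Z Q j // z ≠ 0} := ⟨fun z => z.2 (Subsingleton.elim _ _)⟩
    exact ModuleCat.isZero_iff_subsingleton.2 (inferInstanceAs (Subsingleton ({z : Z Q j // z ≠ 0} →₀ A)))
  exact ⟨hR, fun j hj => (hR j hj).of_mono ((kernel.ι (resG Q)).f j)⟩

lemma Φ_bijective_res (L : DRing.Cx A) (n : ℤ) : Function.Bijective (Φ L (Res Q) n) :=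
  Φ_bijective_cov _ _ L n (Φ_bijective_of_d_eq_zero L FZ_d
    (fun j => inferInstanceAs (Module.Flat A ({z : Z Q j // z ≠ 0} →₀ A))) n)

lemma res_homology_projective (j : ℤ) : Projective ((Res Q).homology j) := by
  haveI : Projective ((FZ Q).X j) :=
    (IsProjective.iff_projective (R := A) ({z : Z Q j // z ≠ 0} →₀ A)).1 inferInstance
  haveI : IsIso ((FZ Q).homologyπ j) := (FZ Q).isIso_homologyπ _ j (CochainComplex.prev ℤ j) (FZ_d _ _)
  haveI : IsIso ((FZ Q).iCycles j) := (FZ Q).isIso_iCycles j _ (CochainComplex.next ℤ j) (FZ_d _ _)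
  exact Projective.of_iso ((asIso ((FZ Q).iCycles j)).symm ≪≫ asIso ((FZ Q).homologyπ j) ≪≫
    (covHomologyIso (FZ Q) Q j).symm) inferInstance

/-- The map on cohomology of the standard cover is surjective. -/
lemma resG_homologyMap_surjective (j : ℤ) :
    Function.Surjective (HomologicalComplex.homologyMap (resG Q) j) := by
  intro c
  obtain ⟨y, rfl⟩ := cls_surjective Q j c
  obtain ⟨m, w, hw⟩ := εZ_cover j y
  refine ⟨HomologicalComplex.homologyMap (covS (FZ Q) Q) j (cls _ j ⟨m, by simp [FZ_d]⟩), ?_⟩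
  rw [← ConcreteCategory.comp_apply, ← HomologicalComplex.homologyMap_comp, covS_covG, cls_map,
    cls_eq_cls_iff Q j (m := j - 1) (by omega)]
  refine ⟨-w, ?_⟩
  change Q.d (j - 1) j (-w) = (εZ Q).f j m - y.1
  rw [map_neg, hw]
  abel

end Groth.Agent.HTor16
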