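import Groth.Agent.HTor16.KunnethFlat
import Groth.Agent.DCat.ClosedPush
import Groth.Agent.DCat.FlatPull
import Groth.Agent.DCat.TorSheaf
import Groth.Agent.CohExch.AffineBC0
import Groth.Agent.Desc19b.FlatOverBC
import Groth.Agent.AmpleLib.Relative
import Groth.Agent.DQCoh.Local
import Groth.Agent.DQCoh.FlatAdm17

/-!
# Derived tensor product as derived pullback of an external product along the diagonal
-/

set_option autoImplicit false
set_option backward.isDefEq.respectTransparency false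
set_option backward.defeqAttrib.useBackward true
set_option linter.style.haveILetI false
set_option synthInstance.maxHeartbeats 100000

universe u

open CategoryTheory CategoryTheory.Limits AlgebraicGeometry
open Groth.Agent.DCat

attribute [local instance] HasDerivedCategory.standard
attribute [-instance] Int.instConditionallyCompleteLinearOrder

namespace Groth.Agent.HTor16

section Product

variable {X S Y₁ Y₂ : Scheme.{u}} (f : X ⟶ S) (i₁ : Y₁ ⟶ X) (i₂ : Y₂ ⟶ X) [IsClosedImmersion i₁]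
  [IsClosedImmersion i₂]

/-- The structure sheaf of a product of closed subschemes is the external tensor product. -/
theorem nonempty_push_prod_iso :
    Nonempty ((Scheme.Modules.pushforward
        (pullback.map (i₁ ≫ f) (i₂ ≫ f) f f i₁ i₂ (𝟙 S) (Category.comp_id _) (Category.comp_id _))).obj
          (Coh.structureModule (pullback (i₁ ≫ f) (i₂ ≫ f))) ≅
      ((shT (pullback f f)).obj ((Scheme.Modules.pullback (pullback.fst f f)).obj
          ((Scheme.Modules.pushforward i₁).obj (Coh.structureModule Y₁)))).obj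
        ((Scheme.Modules.pullback (pullback.snd f f)).obj
          ((Scheme.Modules.pushforward i₂).obj (Coh.structureModule Y₂)))) := by
  let q₁ := pullback.fst f f
  let q₂ := pullback.snd f f
  let k := pullback.map (i₁ ≫ f) (i₂ ≫ f) f f i₁ i₂ (𝟙 S) (Category.comp_id _) (Category.comp_id _)
  have hk₁ : k ≫ q₁ = pullback.fst _ _ ≫ i₁ := pullback.lift_fst _ _ _
  have hk₂ : k ≫ q₂ = pullback.snd _ _ ≫ i₂ := pullback.lift_snd _ _ _
  let a := pullback.fst i₁ q₁
  let j := pullback.snd i₁ q₁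
  have hW : IsPullback a j i₁ q₁ := IsPullback.of_hasPullback i₁ q₁
  haveI : IsClosedImmersion j := MorphismProperty.of_isPullback (P := @IsClosedImmersion) hW inferInstance
  let l := pullback.lift (pullback.fst (i₁ ≫ f) (i₂ ≫ f)) k hk₁.symm
  have hla : l ≫ a = pullback.fst _ _ := pullback.lift_fst _ _ _
  have hlj : l ≫ j = k := pullback.lift_snd _ _ _
  have hV : IsPullback (pullback.snd (i₁ ≫ f) (i₂ ≫ f)) l i₂ (j ≫ q₂) := by
    refine IsPullback.of_bot ?_ ?_ (hW.paste_vert (IsPullback.of_hasPullback f f)).flip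
    · rw [hla]
      exact (IsPullback.of_hasPullback (i₁ ≫ f) (i₂ ≫ f)).flip
    · rw [reassoc_of% hlj]
      exact hk₂.symm
  obtain ⟨oa⟩ := AmpleLib.exists_pullStructureIso a
  obtain ⟨ob⟩ := AmpleLib.exists_pullStructureIso (pullback.snd (i₁ ≫ f) (i₂ ≫ f))
  haveI hb₁ : IsIso (CohBC.bc0 i₁ q₁ j a hW.w (Coh.structureModule Y₁)) :=
    haveI := QCohLoc.isQCoh_structureModule Y₁
    CohExch.isIso_bc0_of_affine hW _
  haveI hb₂ : IsIso (CohBC.bc0 i₂ (j ≫ q₂) l (pullback.snd (i₁ ≫ f) (i₂ ≫ f)) hV.w (Coh.structureModule Y₂)) :=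
    haveI := QCohLoc.isQCoh_structureModule Y₂
    CohExch.isIso_bc0_of_affine hV _
  let M₂ := (Scheme.Modules.pushforward i₂).obj (Coh.structureModule Y₂)
  let e₁ : (Scheme.Modules.pullback q₁).obj ((Scheme.Modules.pushforward i₁).obj (Coh.structureModule Y₁)) ≅
      (Scheme.Modules.pushforward j).obj (Coh.structureModule _) :=
    @asIso _ _ _ _ _ hb₁ ≪≫ (Scheme.Modules.pushforward j).mapIso oa
  let e₂ : (Scheme.Modules.pullback j).obj ((Scheme.Modules.pullback q₂).obj M₂) ≅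
      (Scheme.Modules.pushforward l).obj (Coh.structureModule _) :=
    (Scheme.Modules.pullbackComp j q₂).app M₂ ≪≫ @asIso _ _ _ _ _ hb₂ ≪≫ (Scheme.Modules.pushforward l).mapIso ob
  exact ⟨((Scheme.Modules.pushforwardComp l j ≪≫ Scheme.Modules.pushforwardCongr hlj).app _).symm ≪≫
    (Scheme.Modules.pushforward j).mapIso (e₂.symm ≪≫ ((DQCoh.unitNatIso _).app _).symm) ≪≫
    (asIso (ClosedPush.projMap j (Coh.structureModule _) ((Scheme.Modules.pullback q₂).obj M₂))).symm ≪≫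
    ((shT _).mapIso e₁.symm).app _⟩

end Product

section Diagonal

variable {X S : Scheme.{u}} (f : X ⟶ S) [Flat f]

/-- `M₁ ⊗^L M₂ = LΔ^*(M₁ ⊠ M₂)` for `M₁` flat over the base. -/
theorem nonempty_Lpull_diagonal (M₁ M₂ : X.Modules) (hfl : FlatMod.IsFlatOver f M₁)
    [DCoh.HasLTensorMod M₂] [DCoh.HasLpull (pullback.diagonal f)] :
    Nonempty ((DCoh.LTensorMod M₂).obj (DCoh.inD X M₁) ≅
      (DCoh.Lpull (pullback.diagonal f)).obj (DCoh.inD (pullback f f)
        (((shT (pullback f f)).obj ((Scheme.Modules.pullback (pullback.fst f f)).obj M₁)).obj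
          ((Scheme.Modules.pullback (pullback.snd f f)).obj M₂)))) := by
  let Z := pullback f f
  let q₁ := pullback.fst f f
  let q₂ := pullback.snd f f
  let Δ := pullback.diagonal f
  haveI : Flat q₁ := MorphismProperty.pullback_fst (P := @Flat) _ _ inferInstance
  let Sg := fun (V : Scheme.{u}) => HomologicalComplex.single V.Modules (ComplexShape.up ℤ) 0
  let G := fun {U V : Scheme.{u}} (φ : U ⟶ V) =>
    (Scheme.Modules.pullback φ).mapHomologicalComplex (ComplexShape.up ℤ)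
  obtain ⟨F₁, w₁, hF₁, -, hw₁, -⟩ := exists_kflat_sheaf ((Sg X).obj M₁)
  obtain ⟨F₂, w₂, hF₂, -, hw₂, -⟩ := exists_kflat_sheaf ((Sg X).obj M₂)
  haveI := hw₁
  haveI := hw₂
  haveI := LTensorSheaf.hasLTensorCx F₂
  have hG₁ : IsKFlatFor (shT Z) ((G q₁).obj F₁) := PullTot.isKFlatFor_pullback q₁ hF₁
  have hG₂ : IsKFlatFor (shT Z) ((G q₂).obj F₂) := PullTot.isKFlatFor_pullback q₂ hF₂
  haveI : QuasiIso ((G q₁).map w₁) := inferInstance
  haveI := hG₂.quasiIso_map ((G q₁).map w₁)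
  let P := (G q₁).obj ((Sg X).obj M₁)
  have hPz : ∀ n : ℤ, n ≠ 0 → IsZero (P.X n) := fun n hn =>
    (Scheme.Modules.pullback q₁).map_isZero (HomologicalComplex.isZero_single_obj_X (ComplexShape.up ℤ) 0 M₁ n hn)
  have hPfl : ∀ n, FlatMod.IsFlatOver q₂ (P.X n) := fun n => by
    rcases eq_or_ne n 0 with rfl | hn
    · intro z
      exact Desc19b.isFlatOverAt_baseChange f q₂ q₁ f (IsPullback.of_hasPullback f f) _ z
        (DQCoh.FlatAdm17.flatOver_of_iso f (HomologicalComplex.singleObjXSelf (ComplexShape.up ℤ) 0 M₁).symm hfl _)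
    · exact DQCoh.FlatAdm17.flatOver_of_isZero q₂ (hPz n hn)
  haveI := quasiIso_totMap₂_pull q₂ P 0 (fun n hn => hPz n (by omega)) hPfl w₂
  let a₁ := totMap₁ (shT Z) ((G q₁).map w₁) ((G q₂).obj F₂)
  let a₂ := totMap₂ (shT Z) P ((G q₂).map w₂)
  haveI : QuasiIso (a₁ ≫ a₂) := inferInstance
  haveI : IsIso (DerivedCategory.Q.map (a₁ ≫ a₂)) := (DerivedCategory.isIso_Q_map_iff_quasiIso _ _).2 inferInstance
  obtain ⟨s⟩ := DQCoh.exists_single_tot_iso (shT Z) ((Scheme.Modules.pullback q₁).obj M₁)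
    ((Sg Z).obj ((Scheme.Modules.pullback q₂).obj M₂))
  let ext := ((shT Z).obj ((Scheme.Modules.pullback q₁).obj M₁)).obj ((Scheme.Modules.pullback q₂).obj M₂)
  let u₁ : tot (shT Z) P ((G q₂).obj ((Sg X).obj M₂)) ≅ (Sg Z).obj ext :=
    ((DCoh.tensorCx (X := Z)).mapIso
        ((HomologicalComplex.singleMapHomologicalComplex (Scheme.Modules.pullback q₁) (ComplexShape.up ℤ) 0).app M₁)).app _ ≪≫
      ((DCoh.tensorCx (X := Z)).obj _).mapIso
        ((HomologicalComplex.singleMapHomologicalComplex (Scheme.Modules.pullback q₂) (ComplexShape.up ℤ) 0).app M₂) ≪≫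
      s.symm ≪≫ (HomologicalComplex.singleMapHomologicalComplex ((shT Z).obj _) (ComplexShape.up ℤ) 0).app _
  let e₀ : DCoh.inD Z ext ≅ DerivedCategory.Q.obj (tot (shT Z) ((G q₁).obj F₁) ((G q₂).obj F₂)) :=
    (DerivedCategory.singleFunctorIsoCompQ Z.Modules 0).app ext ≪≫ DerivedCategory.Q.mapIso u₁.symm ≪≫
      (asIso (DerivedCategory.Q.map (a₁ ≫ a₂))).symm
  let c₁ : (G Δ).obj ((G q₁).obj F₁) ≅ F₁ :=
    (NatIso.mapHomologicalComplex (Scheme.Modules.pullbackComp Δ q₁ ≪≫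
      Scheme.Modules.pullbackCongr (pullback.diagonal_fst f) ≪≫ Scheme.Modules.pullbackId X) _).app F₁ ≪≫
      (Functor.mapHomologicalComplexIdIso X.Modules (ComplexShape.up ℤ)).app F₁
  let c₂ : (G Δ).obj ((G q₂).obj F₂) ≅ F₂ :=
    (NatIso.mapHomologicalComplex (Scheme.Modules.pullbackComp Δ q₂ ≪≫
      Scheme.Modules.pullbackCongr (pullback.diagonal_snd f) ≪≫ Scheme.Modules.pullbackId X) _).app F₂ ≪≫
      (Functor.mapHomologicalComplexIdIso X.Modules (ComplexShape.up ℤ)).app F₂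
  let eR : (DCoh.Lpull Δ).obj (DCoh.inD Z ext) ≅ DerivedCategory.Q.obj (tot (shT X) F₁ F₂) :=
    (DCoh.Lpull Δ).mapIso e₀ ≪≫ PullPerf.lpullIso Δ (LTensorSheaf.isKFlatFor_tot hG₁ hG₂) ≪≫
      DerivedCategory.Q.mapIso (PullTot.pullTotIso Δ _ _ ≪≫ ((DCoh.tensorCx (X := X)).mapIso c₁).app _ ≪≫
        ((DCoh.tensorCx (X := X)).obj F₁).mapIso c₂)
  obtain ⟨t⟩ := Dual22Lib.RelTorDim.nonempty_LTensorMod_iso M₂ hF₂ w₂ (DCoh.inD X M₁)
  haveI : IsIso (DerivedCategory.Q.map w₁) := (DerivedCategory.isIso_Q_map_iff_quasiIso _ _).2 hw₁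
  exact ⟨t ≪≫ (DCoh.LTensorCx F₂).mapIso ((DerivedCategory.singleFunctorIsoCompQ X.Modules 0).app M₁ ≪≫
    (asIso (DerivedCategory.Q.map w₁)).symm) ≪≫ LTensorSheaf.ltensorCxIso' hF₂ F₁ ≪≫ eR.symm⟩

end Diagonal

end Groth.Agent.HTor16
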