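import Groth.Agent.HTor16.Tensor
import Mathlib.RingTheory.Flat.Basic
import Mathlib.Algebra.Homology.HomologicalComplexAbelian

/-! Tensoring with a complex of flat modules: short exact sequences and homotopies. -/

set_option autoImplicit false
set_option backward.isDefEq.respectTransparency false
universe u

open CategoryTheory CategoryTheory.Limits MonoidalCategory HomologicalComplex TensorProduct

namespace Groth.Agent.HTor16

variable {A : Type u} [CommRing A] (L : DRing.Cx A) {M M' M'' : DRing.Cx A}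

lemma tensorHom_zero : HomologicalComplex.tensorHom (𝟙 L) (0 : M ⟶ M') = 0 := by
  ext n : 1
  refine ModuleCat.hom_ext (ext_tι fun i j e x y => ?_)
  refine (tensorHom_tι (𝟙 L) (0 : M ⟶ M') i j n e _).trans ?_
  simp

lemma tensorHom_id : HomologicalComplex.tensorHom (𝟙 L) (𝟙 M) = 𝟙 _ := by
  ext n : 1
  refine ModuleCat.hom_ext (ext_tι fun i j e x y => ?_)
  refine (tensorHom_tι (𝟙 L) (𝟙 M) i j n e _).trans ?_
  simp

lemma tensorHom_comp (f : M ⟶ M') (g : M' ⟶ M'') :
    HomologicalComplex.tensorHom (𝟙 L) f ≫ HomologicalComplex.tensorHom (𝟙 L) g =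
      HomologicalComplex.tensorHom (𝟙 L) (f ≫ g) := by
  ext n : 1
  refine ModuleCat.hom_ext (ext_tι fun i j e x y => ?_)
  change (HomologicalComplex.tensorHom (𝟙 L) g).f n ((HomologicalComplex.tensorHom (𝟙 L) f).f n _) = _
  rw [tensorHom_tι, tensorHom_tι]
  refine Eq.trans ?_ (tensorHom_tι (𝟙 L) (f ≫ g) i j n e _).symm
  rfl

/-- `L ⊗ S` for a short complex of complexes `S`. -/
noncomputable def tS (S : ShortComplex (DRing.Cx A)) : ShortComplex (DRing.Cx A) :=
  ShortComplex.mk (HomologicalComplex.tensorHom (𝟙 L) S.f) (HomologicalComplex.tensorHom (𝟙 L) S.g)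
    (by rw [tensorHom_comp, S.zero, tensorHom_zero])

lemma tS_shortExact (hL : DRing.TermwiseFlat L) {S : ShortComplex (DRing.Cx A)} (hS : S.ShortExact) :
    (tS L S).ShortExact := by
  refine HomologicalComplex.shortExact_of_degreewise_shortExact _ fun n => ?_
  have hj : ∀ j : ℤ, (S.map (HomologicalComplex.eval _ _ j)).ShortExact := fun j =>
    hS.map_of_exact (HomologicalComplex.eval _ _ j)
  refine { exact := ?_, mono_f := ?_, epi_g := ?_ }
  · rw [ShortComplex.moduleCat_exact_iff]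
    intro z hz
    let z' : (HTor.tensorCx L S.X₂).X n := z
    have hc : ∀ ij : HTor.Antidiag n, ∃ w, TensorProduct.map LinearMap.id (S.f.f ij.1.2).hom w =
        tπ L S.X₂ ij.1.1 ij.1.2 n ij.2 z' := fun ij => by
      have := hL ij.1.1
      have he := Module.Flat.lTensor_exact (L.X ij.1.1)
        (LinearMap.exact_iff.2 (hj ij.1.2).exact.moduleCat_range_eq_ker.symm)
      refine (he _).1 ?_
      refine (tπ_tensorHom (𝟙 L) S.g ij.1.1 ij.1.2 n ij.2 z').symm.trans ?_
      exact (congrArg _ hz).trans (map_zero _)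
    choose w hw using hc
    classical
    let t := toDS L S.X₂ n z'
    refine ⟨∑ ij ∈ t.support, tι L S.X₁ ij.1.1 ij.1.2 n ij.2 (w ij), ?_⟩
    refine ((map_sum ((HomologicalComplex.tensorHom (𝟙 L) S.f).f n).hom _ _).trans ?_ :
      ((HomologicalComplex.tensorHom (𝟙 L) S.f).f n) _ = z')
    refine Eq.trans ?_ (ofDS_toDS n z')
    refine Eq.trans ?_ (congrArg (ofDS L S.X₂ n) (DirectSum.sum_support_of t))
    rw [map_sum]
    refine Finset.sum_congr rfl fun ij _ => ?_
    refine (tensorHom_tι (𝟙 L) S.f _ _ n ij.2 (w ij)).trans ?_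
    refine Eq.trans ?_ (ofDS_lof ij (t ij)).symm
    exact congrArg _ (hw ij)
  · rw [ModuleCat.mono_iff_injective]
    intro (z : (HTor.tensorCx L S.X₁).X n) z' h
    refine ext_tπ fun i j e => ?_
    have := hL i
    apply Module.Flat.lTensor_preserves_injective_linearMap (M := L.X i) _ (hj j).moduleCat_injective_f
    refine (tπ_tensorHom (𝟙 L) S.f i j n e z).symm.trans
      ((congrArg (tπ L S.X₂ i j n e) h).trans ?_)
    exact tπ_tensorHom (𝟙 L) S.f i j n e z'
  · rw [ModuleCat.epi_iff_surjective]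
    intro (z : (HTor.tensorCx L S.X₃).X n)
    induction z using induction_tι with
    | h0 => exact ⟨0, map_zero _⟩
    | ht i j e t =>
      obtain ⟨s, rfl⟩ := LinearMap.lTensor_surjective (L.X i) (hj j).moduleCat_surjective_g t
      exact ⟨tι L S.X₂ i j n e s, tensorHom_tι (𝟙 L) S.g i j n e s⟩
    | hadd a b ha hb =>
      obtain ⟨x, rfl⟩ := ha
      obtain ⟨y, rfl⟩ := hb
      exact ⟨x + y, map_add _ x y⟩

/-- A homotopy between `f` and `g`, given componentwise, gives `L ⊗ f = L ⊗ g` in cohomology. -/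
lemma homologyMap_tensorHom_eq (f g : M ⟶ M') (h : ∀ j k : ℤ, k + 1 = j → (M.X j →ₗ[A] M'.X k))
    (hh : ∀ (j k l : ℤ) (hk : k + 1 = j) (hl : j + 1 = l) (y : M.X j),
      f.f j y - g.f j y = M'.d k j (h j k hk y) + h l j hl (M.d j l y)) (n : ℤ) :
    HomologicalComplex.homologyMap (HomologicalComplex.tensorHom (𝟙 L) f) n =
      HomologicalComplex.homologyMap (HomologicalComplex.tensorHom (𝟙 L) g) n := by
  let H : ∀ p q : ℤ, q + 1 = p → ((HTor.tensorCx L M).X p →ₗ[A] (HTor.tensorCx L M').X q) :=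
    fun p q e => (DirectSum.toModule A _ _ fun ij : HTor.Antidiag p =>
      ij.1.1.negOnePow • (tι L M' ij.1.1 (ij.1.2 - 1) q (by have := ij.2; omega) ∘ₗ
        (h ij.1.2 (ij.1.2 - 1) (by omega)).lTensor (L.X ij.1.1))) ∘ₗ toDS L M p
  have hH : ∀ (p q : ℤ) (e : q + 1 = p) (i j k : ℤ) (e' : i + j = p) (hk : k + 1 = j) (x : L.X i) (y : M.X j),
      H p q e (tι L M i j p e' (x ⊗ₜ y)) = i.negOnePow • tι L M' i k q (by omega) (x ⊗ₜ h j k hk y) := by
    intro p q e i j k e' hk x y
    obtain rfl : k = j - 1 := by omega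
    change DirectSum.toModule A _ _ _ (toDS L M p _) = _
    rw [toDS_tι]
    exact DirectSum.toModule_lof A (φ := fun ij : HTor.Antidiag p =>
      ij.1.1.negOnePow • (tι L M' ij.1.1 (ij.1.2 - 1) q (by have := ij.2; omega) ∘ₗ
        (h ij.1.2 (ij.1.2 - 1) (by omega)).lTensor (L.X ij.1.1))) ⟨(i, j), e'⟩ (x ⊗ₜ y)
  have key : ((HomologicalComplex.tensorHom (𝟙 L) f).f n).hom - ((HomologicalComplex.tensorHom (𝟙 L) g).f n).hom =
      ((HTor.tensorCx L M').d (n - 1) n).hom ∘ₗ H n (n - 1) (by omega) +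
        H (n + 1) n rfl ∘ₗ ((HTor.tensorCx L M).d n (n + 1)).hom := by
    refine ext_tι fun i j e x y => ?_
    change (HomologicalComplex.tensorHom (𝟙 L) f).f n _ - (HomologicalComplex.tensorHom (𝟙 L) g).f n _ =
      (HTor.tensorCx L M').d (n - 1) n (H n (n - 1) (by omega) _) + H (n + 1) n rfl ((HTor.tensorCx L M).d n (n + 1) _)
    rw [tensorHom_tι, tensorHom_tι, hH n (n - 1) (by omega) i j (j - 1) e (by omega),
      d_tι i j n (n + 1) e rfl, map_add, Units.smul_def, Units.smul_def, map_zsmul, map_zsmul,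
      d_tι i (j - 1) (n - 1) n (by omega) (by omega), hH (n + 1) n rfl (i + 1) j (j - 1) (by omega) (by omega),
      hH (n + 1) n rfl i (j + 1) j (by omega) rfl]
    have hjj : j - 1 + 1 = j := by omega
    have hd : ∀ (q : ℤ) (hq : q = j) (e1 : i + q = n), tι L M' i q n e1 (x ⊗ₜ M'.d (j - 1) q (h j (j - 1) (by omega) y)) =
        tι L M' i j n e (x ⊗ₜ M'.d (j - 1) j (h j (j - 1) (by omega) y)) := by
      rintro q rfl e1; rfl
    rw [hd _ hjj]
    simp only [TensorProduct.map_tmul]
    change tι L M' i j n e (x ⊗ₜ f.f j y) - tι L M' i j n e (x ⊗ₜ g.f j y) = _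
    rw [← map_sub, ← TensorProduct.tmul_sub, hh j (j - 1) (j + 1) (by omega) rfl y, TensorProduct.tmul_add, map_add]
    simp only [Units.smul_def, smul_add, smul_smul, Int.negOnePow_succ, Units.val_neg,
      Int.units_coe_mul_self, one_smul, neg_smul]
    abel
  refine homologyMap_ext n (m := n - 1) (by omega) _ _ fun z => ⟨H n (n - 1) (by omega) z.1, ?_⟩
  refine ((LinearMap.congr_fun key z.1).trans ?_).symm
  change _ + H (n + 1) n rfl ((HTor.tensorCx L M).d n (n + 1) z.1) = _
  rw [LinearMap.mem_ker.1 z.2, map_zero, add_zero]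
  rfl

end Groth.Agent.HTor16
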