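import Groth.Agent.HTor16.Cover
import Groth.Agent.HTor16.TorShift

/-! The filtration of `H(L ⊗ M)` whose graded pieces are subquotients of `Tor`. -/

set_option autoImplicit false
set_option backward.isDefEq.respectTransparency false
universe u

open CategoryTheory CategoryTheory.Limits MonoidalCategory HomologicalComplex TensorProduct

namespace Groth.Agent.HTor16

variable {A : Type u} [CommRing A]

lemma isSubquotient_of_map {T V N : Type u} [AddCommGroup T] [Module A T] [AddCommGroup V] [Module A V]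
    [AddCommGroup N] [Module A N] (S' : Submodule A T) (q : S' →ₗ[A] V) (f : N →ₗ[A] V)
    (hf : Function.Injective f) (hr : LinearMap.range f ≤ LinearMap.range q) :
    HTor.IsSubquotient A N T := by
  refine ⟨(LinearMap.ker q).map S'.subtype, ((LinearMap.range f).comap q).map S'.subtype,
    Submodule.map_mono fun x hx => by simp [LinearMap.mem_ker.1 hx], ⟨?_⟩⟩
  let e := Submodule.equivMapOfInjective S'.subtype S'.injective_subtype ((LinearMap.range f).comap q)
  let g : ↥(((LinearMap.range f).comap q).map S'.subtype) →ₗ[A] LinearMap.range f :=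
    (q.restrict fun x (hx : x ∈ (LinearMap.range f).comap q) => hx) ∘ₗ e.symm.toLinearMap
  have hg : Function.Surjective g := fun y => by
    obtain ⟨x, hx⟩ := hr y.2
    refine ⟨e ⟨x, ?_⟩, ?_⟩
    · change q x ∈ LinearMap.range f
      rw [hx]; exact y.2
    · simp only [g, LinearMap.coe_comp, LinearEquiv.coe_coe, Function.comp_apply, LinearEquiv.symm_apply_apply]
      exact Subtype.ext hx
  refine (LinearEquiv.ofInjective f hf).trans ((g.quotKerEquivOfSurjective hg).symm.trans
    (Submodule.quotEquivOfEq _ _ ?_))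
  ext x
  obtain ⟨x, rfl⟩ := e.surjective x
  simp only [LinearMap.mem_ker, g, LinearMap.coe_comp, LinearEquiv.coe_coe, Function.comp_apply,
    LinearEquiv.symm_apply_apply, Submodule.mem_comap]
  rw [← Submodule.coe_eq_zero]
  constructor
  · intro h
    exact ⟨x.1, h, rfl⟩
  · rintro ⟨y, hy, hxy⟩
    obtain rfl : y = x.1 := Subtype.ext hxy
    exact hy

lemma isSubquotient_mono {N N' T T' : Type u} [AddCommGroup T] [Module A T] [AddCommGroup T'] [Module A T']
    [AddCommGroup N] [Module A N] [AddCommGroup N'] [Module A N'] (h : HTor.IsSubquotient A N' T')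
    (f : N →ₗ[A] N') (hf : Function.Injective f) (e : T ≃ₗ[A] T') : HTor.IsSubquotient A N T := by
  obtain ⟨S, S', -, ⟨i⟩⟩ := h
  let c : ↥(S'.comap e.toLinearMap) →ₗ[A] ↥S' := e.toLinearMap.restrict fun _ hx => hx
  refine isSubquotient_of_map (S'.comap e.toLinearMap) (i.symm.toLinearMap ∘ₗ Submodule.mkQ _ ∘ₗ c) f hf ?_
  rintro x -
  obtain ⟨y, hy⟩ := Submodule.mkQ_surjective _ (i x)
  exact ⟨⟨e.symm y.1, by simp⟩, by
    change i.symm (Submodule.mkQ _ (c _)) = x
    rw [show c ⟨e.symm y.1, _⟩ = y from Subtype.ext (e.apply_symm_apply y.1), hy, LinearEquiv.symm_apply_apply]⟩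

lemma isSubquotient_subsingleton {N T : Type u} [AddCommGroup T] [Module A T]
    [AddCommGroup N] [Module A N] (h : HTor.IsSubquotient A N T) [Subsingleton T] : Subsingleton N := by
  obtain ⟨S, S', -, ⟨i⟩⟩ := h
  exact i.toEquiv.subsingleton

variable (L : DRing.Cx A)

/-- The syzygy complex. -/
noncomputable abbrev K₁ (M : DRing.Cx A) : DRing.Cx A := kernel (resG M)

variable {L} (hL : DRing.TermwiseFlat L)

/-- The connecting map. -/
noncomputable def dlt (M : DRing.Cx A) (n : ℤ) :
    (HTor.tensorCx L M).homology n →ₗ[A] (HTor.tensorCx L (K₁ M)).homology (n + 1) :=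
  ((tS_shortExact L hL (resS_shortExact (Q := M))).δ n (n + 1) rfl).hom

lemma KSmap_resG_surjective (M : DRing.Cx A) (n : ℤ) : Function.Surjective (KSmap L (resG M) n) :=
  (DFinsupp.mapRange_surjective _ fun _ => map_zero _).2 fun ij =>
    LinearMap.lTensor_surjective _ (resG_homologyMap_surjective ij.1.2)

lemma ker_dlt (M : DRing.Cx A) (n : ℤ) :
    LinearMap.ker (dlt hL M n) = LinearMap.range (Φ L M n) := by
  have hex := (tS_shortExact L hL (resS_shortExact (Q := M))).homology_exact₃ n (n + 1) rfl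
  rw [ShortComplex.moduleCat_exact_iff_range_eq_ker] at hex
  refine hex.symm.trans (le_antisymm ?_ ?_)
  · rintro _ ⟨y, rfl⟩
    obtain ⟨t, rfl⟩ := (Φ_bijective_res L n).2 y
    exact ⟨_, Φ_natural L (resG M) n t⟩
  · rintro _ ⟨t, rfl⟩
    obtain ⟨s, rfl⟩ := KSmap_resG_surjective M n t
    exact ⟨Φ L (Res M) n s, (Φ_natural L (resG M) n s).symm⟩

/-- The filtration. -/
noncomputable def F : ℕ → ∀ (M : DRing.Cx A) (n : ℤ), Submodule A ((HTor.tensorCx L M).homology n)
  | 0 => fun M n => LinearMap.range (Φ L M n)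
  | p + 1 => fun M n => (F p (K₁ M) (n + 1)).comap (dlt hL M n)

lemma F_monotone (M : DRing.Cx A) (n : ℤ) : Monotone fun p => F hL p M n := by
  refine monotone_nat_of_le_succ fun p => ?_
  induction p generalizing M n with
  | zero =>
    intro x hx
    change dlt hL M n x ∈ F hL 0 (K₁ M) (n + 1)
    rw [LinearMap.mem_ker.1 (show x ∈ LinearMap.ker (dlt hL M n) from (ker_dlt hL M n).symm ▸ hx)]
    exact zero_mem _
  | succ p ih => exact Submodule.comap_mono (ih (K₁ M) (n + 1))

lemma F_eq_top {bL : ℤ} (hbL : DRing.VanishesAbove L bL) :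
    ∀ (p : ℕ) (M : DRing.Cx A) (n b : ℤ), DRing.VanishesAbove M b → bL + b < n + p → F hL p M n = ⊤
  | 0, M, n, b, hb, h => by
    have : Subsingleton ((HTor.tensorCx L M).X n) := ⟨fun z w => ext_tπ fun i j e => by
      have : Subsingleton (TensorProduct A (L.X i) (M.X j)) := by
        by_cases hi : bL < i
        · have := ModuleCat.isZero_iff_subsingleton.1 (hbL i hi)
          infer_instance
        · have := ModuleCat.isZero_iff_subsingleton.1 (hb j (by omega))
          infer_instance
      exact Subsingleton.elim _ _⟩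
    have : Subsingleton ((HTor.tensorCx L M).homology n) :=
      (cls_surjective (HTor.tensorCx L M) n).subsingleton
    exact Subsingleton.elim _ _
  | p + 1, M, n, b, hb, h => by
    change Submodule.comap _ _ = ⊤
    rw [F_eq_top hbL p (K₁ M) (n + 1) b (res_vanishes b hb).2 (by push_cast at h ⊢; omega), Submodule.comap_top]

lemma resG_homology_shortExact (M : DRing.Cx A) (j : ℤ) :
    (ShortComplex.mk (HomologicalComplex.homologyMap (resS M).f j) (HomologicalComplex.homologyMap (resS M).g j)
      (by rw [← HomologicalComplex.homologyMap_comp, (resS M).zero, HomologicalComplex.homologyMap_zero])).ShortExact := by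
  have hS := resS_shortExact (Q := M)
  refine { exact := hS.homology_exact₂ j, mono_f := ?_,
           epi_g := (ModuleCat.epi_iff_surjective _).2 (resG_homologyMap_surjective j) }
  haveI : Epi (HomologicalComplex.homologyMap (resS M).g (j - 1)) :=
    (ModuleCat.epi_iff_surjective _).2 (resG_homologyMap_surjective (j - 1))
  have h0 : hS.δ (j - 1) j (by simp) = 0 := zero_of_epi_comp _ (hS.comp_δ (j - 1) j (by simp))
  exact (hS.homology_exact₁ (j - 1) j (by simp)).mono_g h0

/-- A componentwise equivalence of direct sums. -/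
noncomputable def sumEquiv {ι κ : Type} {X : ι → Type u} {Y : κ → Type u} [∀ i, AddCommGroup (X i)]
    [∀ i, Module A (X i)] [∀ i, AddCommGroup (Y i)] [∀ i, Module A (Y i)] (e : ι ≃ κ)
    (f : ∀ k, X (e.symm k) ≃ₗ[A] Y k) : DirectSum ι X ≃ₗ[A] DirectSum κ Y :=
  (DirectSum.lequivCongrLeft A e).trans (DFinsupp.mapRange.linearEquiv f)

lemma subquotient :
    ∀ (p : ℕ) (M : DRing.Cx A) (n : ℤ),
      HTor.IsSubquotient A (HTor.grSucc (fun q => F hL q M n) p) (HTor.TorSum L M n (p + 1))
  | 0, M, n => by
    classical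
    haveI := fun j => res_homology_projective (Q := M) j
    let e := fun ij : {ij : ℤ × ℤ // ij.1 + ij.2 - ((0 + 1 : ℕ) : ℤ) = n} =>
      (torOne (L.homology ij.1.1) (resG_homology_shortExact M ij.1.2)).some
    let β : HTor.TorSum L M n (0 + 1) →ₗ[A] (HTor.tensorCx L (K₁ M)).homology (n + 1) :=
      DirectSum.toModule A _ _ fun ij =>
        κ L (K₁ M) ij.1.1 ij.1.2 (n + 1) (by have := ij.2; push_cast at this; omega) ∘ₗ
          (LinearMap.ker _).subtype ∘ₗ (e ij).toLinearMap
    let f : HTor.grSucc (fun q => F hL q M n) 0 →ₗ[A] (HTor.tensorCx L (K₁ M)).homology (n + 1) :=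
      Submodule.liftQ _ (dlt hL M n ∘ₗ (F hL (0 + 1) M n).subtype) fun x hx => by
        have : x.1 ∈ LinearMap.range (Φ L M n) := hx
        rw [← ker_dlt hL M n] at this
        exact this
    refine isSubquotient_of_map ⊤ (β ∘ₗ (⊤ : Submodule A _).subtype) f ?_ ?_
    · rw [← LinearMap.ker_eq_bot, Submodule.ker_liftQ_eq_bot]
      intro x hx
      change x.1 ∈ LinearMap.range (Φ L M n)
      rw [← ker_dlt hL M n]
      exact hx
    · rintro _ ⟨x, rfl⟩
      obtain ⟨x, rfl⟩ := Submodule.mkQ_surjective _ x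
      obtain ⟨t, ht⟩ := x.2
      change dlt hL M n x.1 ∈ _
      rw [← ht]
      have hz : KSmap L (kernel.ι (resG M)) (n + 1) t = 0 := by
        apply (Φ_bijective_res L (n + 1)).1
        rw [Φ_natural, map_zero, ht]
        exact ConcreteCategory.congr_hom
          ((tS_shortExact L hL (resS_shortExact (Q := M))).δ_comp n (n + 1) rfl) x.1
      rw [← DirectSum.sum_support_of t, map_sum]
      refine Submodule.sum_mem _ fun ij _ => ?_
      have hk : t ij ∈ LinearMap.ker ((HomologicalComplex.homologyMap (resS M).f ij.1.2).hom.lTensor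
          (L.homology ij.1.1)) := DFunLike.congr_fun hz ij
      have hn : ij.1.1 + ij.1.2 - ((0 + 1 : ℕ) : ℤ) = n := by have := ij.2; push_cast; omega
      refine ⟨⟨DirectSum.lof A {ij : ℤ × ℤ // ij.1 + ij.2 - ((0 + 1 : ℕ) : ℤ) = n}
        (fun ij => DRing.Tor A (0 + 1) (L.homology ij.1.1) (M.homology ij.1.2)) ⟨ij.1, hn⟩ ((e ⟨ij.1, hn⟩).symm ⟨t ij, hk⟩), trivial⟩, ?_⟩
      refine Eq.trans ?_ (Φ_lof L (K₁ M) (n + 1) ij (t ij)).symm
      simp only [β, LinearMap.coe_comp, Function.comp_apply, Submodule.subtype_apply, DirectSum.toModule_lof,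
        LinearEquiv.coe_coe, LinearEquiv.apply_symm_apply]
  | p + 1, M, n => by
    haveI := fun j => res_homology_projective (Q := M) j
    let f : HTor.grSucc (fun q => F hL q M n) (p + 1) →ₗ[A] HTor.grSucc (fun q => F hL q (K₁ M) (n + 1)) p :=
      Submodule.mapQ _ _ ((dlt hL M n).restrict fun x hx => hx) fun x hx => hx
    refine isSubquotient_mono (subquotient p (K₁ M) (n + 1)) f ?_
      (sumEquiv (Equiv.subtypeEquivRight fun ij => by push_cast; omega) fun k => ?_)
    · rw [← LinearMap.ker_eq_bot, eq_bot_iff]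
      intro x hx
      obtain ⟨x, rfl⟩ := Submodule.mkQ_surjective _ x
      rw [LinearMap.mem_ker] at hx
      change Submodule.Quotient.mk _ = (0 : HTor.grSucc (fun q => F hL q (K₁ M) (n + 1)) p) at hx
      rw [Submodule.Quotient.mk_eq_zero] at hx
      exact (Submodule.Quotient.mk_eq_zero _).2 hx
    · exact (torShift (L.homology k.1.1) (resG_homology_shortExact M k.1.2) p).some

end Groth.Agent.HTor16
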