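import Groth.Agent.HTor16.Exact
import Mathlib.LinearAlgebra.TensorProduct.RightExactness

/-! The Künneth map, and its bijectivity when the second complex has zero differential and flat terms. -/

set_option autoImplicit false
set_option backward.isDefEq.respectTransparency false
universe u

open CategoryTheory CategoryTheory.Limits MonoidalCategory HomologicalComplex TensorProduct

namespace Groth.Agent.HTor16

variable {A : Type u} [CommRing A] (L M : DRing.Cx A)

/-- The product of two cocycles. -/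
noncomputable def prodC (i j n : ℤ) (h : i + j = n) : Z L i →ₗ[A] Z M j →ₗ[A] Z (HTor.tensorCx L M) n :=
  LinearMap.mk₂ A (fun x y => ⟨tι L M i j n h (x.1 ⊗ₜ y.1), by
      rw [LinearMap.mem_ker, d_tι i j n (n + 1) h rfl]
      rw [LinearMap.mem_ker.1 x.2, LinearMap.mem_ker.1 y.2]
      simp⟩)
    (fun _ _ _ => Subtype.ext (by simp [TensorProduct.add_tmul]))
    (fun _ _ _ => Subtype.ext (by simp [← TensorProduct.smul_tmul']))
    (fun _ _ _ => Subtype.ext (by simp [TensorProduct.tmul_add]))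
    (fun _ _ _ => Subtype.ext (by simp [TensorProduct.tmul_smul]))

lemma prodC_coe (i j n : ℤ) (h : i + j = n) (x : Z L i) (y : Z M j) :
    (prodC L M i j n h x y).1 = tι L M i j n h (x.1 ⊗ₜ y.1) := rfl

lemma cls_prodC_left (i j n : ℤ) (h : i + j = n) (x : Z L i) (hx : cls L i x = 0) (y : Z M j) :
    cls _ n (prodC L M i j n h x y) = 0 := by
  obtain ⟨u, hu⟩ := (cls_eq_zero_iff L i (m := i - 1) (by omega) x).1 hx
  refine (cls_eq_zero_iff _ n (m := n - 1) (by omega) _).2
    ⟨tι L M (i - 1) j (n - 1) (by omega) (u ⊗ₜ y.1), ?_⟩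
  rw [d_tι (i - 1) j (n - 1) n (by omega) (by omega), LinearMap.mem_ker.1 y.2, TensorProduct.tmul_zero,
    map_zero, smul_zero, add_zero, prodC_coe, ← hu]
  have : ∀ (q : ℤ) (_ : q = i) (e : q + j = n), tι L M q j n e (L.d (i - 1) q u ⊗ₜ y.1) =
      tι L M i j n h (L.d (i - 1) i u ⊗ₜ y.1) := by rintro q rfl e; rfl
  exact this _ (by omega) _

lemma cls_prodC_right (i j n : ℤ) (h : i + j = n) (x : Z L i) (y : Z M j) (hy : cls M j y = 0) :
    cls _ n (prodC L M i j n h x y) = 0 := by
  obtain ⟨v, hv⟩ := (cls_eq_zero_iff M j (m := j - 1) (by omega) y).1 hy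
  refine (cls_eq_zero_iff _ n (m := n - 1) (by omega) _).2
    ⟨i.negOnePow • tι L M i (j - 1) (n - 1) (by omega) (x.1 ⊗ₜ v), ?_⟩
  rw [Units.smul_def, map_zsmul, d_tι i (j - 1) (n - 1) n (by omega) (by omega), LinearMap.mem_ker.1 x.2,
    TensorProduct.zero_tmul, map_zero, zero_add, Units.smul_def, smul_smul, Int.units_coe_mul_self,
    one_smul, prodC_coe, ← hv]
  have : ∀ (q : ℤ) (_ : q = j) (e : i + q = n), tι L M i q n e (x.1 ⊗ₜ M.d (j - 1) q v) =
      tι L M i j n h (x.1 ⊗ₜ M.d (j - 1) j v) := by rintro q rfl e; rfl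
  exact this _ (by omega) _

/-- The bilinear map behind one component of the Künneth map. -/
noncomputable def κ₁ (i j n : ℤ) (h : i + j = n) :
    L.homology i →ₗ[A] Z M j →ₗ[A] (HTor.tensorCx L M).homology n :=
  descend (cls L i) (cls_surjective L i) ((prodC L M i j n h).compr₂ (cls _ n)) fun x hx =>
    LinearMap.ext fun y => cls_prodC_left L M i j n h x hx y

noncomputable def κ (i j n : ℤ) (h : i + j = n) :
    TensorProduct A (L.homology i) (M.homology j) →ₗ[A] (HTor.tensorCx L M).homology n :=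
  TensorProduct.lift
    (descend (cls M j) (cls_surjective M j) (κ₁ L M i j n h).flip fun y hy => LinearMap.ext fun a => by
      obtain ⟨x, rfl⟩ := cls_surjective L i a
      change κ₁ L M i j n h (cls L i x) y = 0
      rw [κ₁, descend_apply]
      exact cls_prodC_right L M i j n h x y hy).flip

lemma κ_cls (i j n : ℤ) (h : i + j = n) (x : Z L i) (y : Z M j) :
    κ L M i j n h (cls L i x ⊗ₜ cls M j y) = cls _ n (prodC L M i j n h x y) := by
  rw [κ, TensorProduct.lift.tmul, LinearMap.flip_apply, descend_apply]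
  change κ₁ L M i j n h (cls L i x) y = _
  rw [κ₁, descend_apply]
  rfl

/-- The Künneth map. -/
noncomputable def Φ (n : ℤ) : HTor.KunnethSum L M n →ₗ[A] (HTor.tensorCx L M).homology n :=
  DirectSum.toModule A _ _ fun ij => κ L M ij.1.1 ij.1.2 n ij.2

lemma Φ_lof (n : ℤ) (ij : HTor.Antidiag n) (t : TensorProduct A (L.homology ij.1.1) (M.homology ij.1.2)) :
    Φ L M n (DirectSum.lof A (HTor.Antidiag n)
      (fun ij => TensorProduct A (L.homology ij.1.1) (M.homology ij.1.2)) ij t) =
      κ L M ij.1.1 ij.1.2 n ij.2 t :=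
  DirectSum.toModule_lof A (φ := fun ij : HTor.Antidiag n => κ L M ij.1.1 ij.1.2 n ij.2) ij t

lemma isKunnethMap (n : ℤ) : HTor.IsKunnethMap L M n (Φ L M n) := by
  intro ij z z' w hw
  obtain ⟨x, rfl⟩ := mkC_surjective L _ z
  obtain ⟨y, rfl⟩ := mkC_surjective M _ z'
  obtain ⟨v, rfl⟩ := mkC_surjective (HTor.tensorCx L M) _ w
  refine (Φ_lof L M n ij (cls L _ x ⊗ₜ cls M _ y)).trans ((κ_cls L M _ _ n ij.2 x y).trans ?_)
  refine congrArg (cls (HTor.tensorCx L M) n) (Subtype.ext ?_).symm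
  rw [i_mkC, i_mkC, i_mkC] at hw
  exact hw

variable {M} {M' : DRing.Cx A}

/-- The map on Künneth sums. -/
noncomputable def KSmap (g : M ⟶ M') (n : ℤ) : HTor.KunnethSum L M n →ₗ[A] HTor.KunnethSum L M' n :=
  DFinsupp.mapRange.linearMap fun ij => (HomologicalComplex.homologyMap g ij.1.2).hom.lTensor (L.homology ij.1.1)

lemma KSmap_lof (g : M ⟶ M') (n : ℤ) (ij : HTor.Antidiag n)
    (t : TensorProduct A (L.homology ij.1.1) (M.homology ij.1.2)) :
    KSmap L g n (DirectSum.lof A (HTor.Antidiag n)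
      (fun ij => TensorProduct A (L.homology ij.1.1) (M.homology ij.1.2)) ij t) =
    DirectSum.lof A (HTor.Antidiag n) (fun ij => TensorProduct A (L.homology ij.1.1) (M'.homology ij.1.2)) ij
      ((HomologicalComplex.homologyMap g ij.1.2).hom.lTensor (L.homology ij.1.1) t) :=
  DFinsupp.mapRange_single (hf := fun _ => map_zero _)

lemma Φ_natural (g : M ⟶ M') (n : ℤ) (t : HTor.KunnethSum L M n) :
    Φ L M' n (KSmap L g n t) =
      HomologicalComplex.homologyMap (HomologicalComplex.tensorHom (𝟙 L) g) n (Φ L M n t) := by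
  suffices Φ L M' n ∘ₗ KSmap L g n =
      (HomologicalComplex.homologyMap (HomologicalComplex.tensorHom (𝟙 L) g) n).hom ∘ₗ Φ L M n from
    LinearMap.congr_fun this t
  refine DirectSum.linearMap_ext A fun ij => TensorProduct.ext' fun a b => ?_
  obtain ⟨x, rfl⟩ := cls_surjective L _ a
  obtain ⟨y, rfl⟩ := cls_surjective M _ b
  simp only [LinearMap.coe_comp, Function.comp_apply]
  rw [KSmap_lof, Φ_lof, Φ_lof, LinearMap.lTensor_tmul]
  change κ L M' _ _ n _ (cls L _ x ⊗ₜ HomologicalComplex.homologyMap g _ (cls M _ y)) = _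
  rw [cls_map, κ_cls, κ_cls, cls_map]
  refine congrArg _ (Subtype.ext ?_)
  exact (tensorHom_tι (𝟙 L) g _ _ n _ (x.1 ⊗ₜ y.1)).symm

lemma Φ_bijective_of_d_eq_zero (hP : ∀ a b : ℤ, M.d a b = 0) (hf : DRing.TermwiseFlat M) (n : ℤ) :
    Function.Bijective (Φ L M n) := by
  classical
  let s : ∀ j, M.X j →ₗ[A] Z M j := fun j => LinearMap.id.codRestrict _ fun y => by simp [hP]
  let E : ∀ ij : HTor.Antidiag n, TensorProduct A (Z L ij.1.1) (M.X ij.1.2) →ₗ[A]
      TensorProduct A (L.homology ij.1.1) (M.homology ij.1.2) :=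
    fun ij => TensorProduct.map (cls L ij.1.1) (cls M ij.1.2 ∘ₗ s ij.1.2)
  have hsurj : ∀ ij, Function.Surjective (E ij) := fun ij => TensorProduct.map_surjective (cls_surjective L _)
    ((cls_surjective M _).comp fun y => ⟨y.1, Subtype.ext rfl⟩)
  let θ : ∀ ij : HTor.Antidiag n, TensorProduct A (Z L ij.1.1) (M.X ij.1.2) →ₗ[A] Z (HTor.tensorCx L M) n :=
    fun ij => TensorProduct.lift ((prodC L M ij.1.1 ij.1.2 n ij.2).compl₂ (s ij.1.2))
  have hθ : ∀ ij w, κ L M ij.1.1 ij.1.2 n ij.2 (E ij w) = cls _ n (θ ij w) := by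
    intro ij w
    suffices κ L M ij.1.1 ij.1.2 n ij.2 ∘ₗ E ij = cls _ n ∘ₗ θ ij from LinearMap.congr_fun this w
    exact TensorProduct.ext' fun x y => κ_cls L M _ _ n ij.2 x (s _ y)
  have hθ' : ∀ ij w, (θ ij w).1 = tι L M ij.1.1 ij.1.2 n ij.2 ((Z L ij.1.1).subtype.rTensor (M.X ij.1.2) w) := by
    intro ij w
    suffices (Z (HTor.tensorCx L M) n).subtype ∘ₗ θ ij =
        tι L M ij.1.1 ij.1.2 n ij.2 ∘ₗ (Z L ij.1.1).subtype.rTensor (M.X ij.1.2) from LinearMap.congr_fun this w
    exact TensorProduct.ext' fun x y => rfl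
  let Θ := DirectSum.toModule A (HTor.Antidiag n) _ θ
  let EE : DirectSum _ (fun ij : HTor.Antidiag n => TensorProduct A (Z L ij.1.1) (M.X ij.1.2)) →ₗ[A]
      HTor.KunnethSum L M n := DFinsupp.mapRange.linearMap E
  have hΘ : ∀ w, Φ L M n (EE w) = cls _ n (Θ w) := by
    intro w
    suffices Φ L M n ∘ₗ EE = cls _ n ∘ₗ Θ from LinearMap.congr_fun this w
    refine DirectSum.linearMap_ext A fun ij => LinearMap.ext fun v => ?_
    change Φ L M n (EE (DirectSum.lof A _ _ ij v)) = cls _ n (Θ (DirectSum.lof A _ _ ij v))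
    rw [DirectSum.toModule_lof, show EE (DirectSum.lof A _ _ ij v) = DirectSum.lof A _ _ ij (E ij v) from
      DFinsupp.mapRange_single (hf := fun _ => map_zero _), Φ_lof, hθ]
  have hd : ∀ (i j p p' : ℤ) (e : i + j = p) (hp : p + 1 = p') (z : (HTor.tensorCx L M).X p),
      tπ L M (i + 1) j p' (by omega) ((HTor.tensorCx L M).d p p' z) =
        (L.d i (i + 1)).hom.rTensor (M.X j) (tπ L M i j p e z) := by
    intro i j p p' e hp z
    induction z using induction_tι with
    | h0 => simp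
    | hadd a b ha hb => simp only [map_add, ha, hb]
    | ht a b e' t =>
      induction t using TensorProduct.induction_on with
      | zero => simp
      | add a b ha hb => simp only [map_add, ha, hb]
      | tmul x y =>
        rw [d_tι a b p p' e' hp, hP b (b + 1)]
        simp only [ModuleCat.hom_zero, LinearMap.zero_apply, TensorProduct.tmul_zero, map_zero, smul_zero, add_zero]
        by_cases he : (a, b) = (i, j)
        · obtain ⟨rfl, rfl⟩ := Prod.mk.injEq .. ▸ he
          rw [tπ_tι, tπ_tι]; rfl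
        · rw [tπ_tι_ne e' e he, map_zero, tπ_tι_ne]
          exact fun h => he (by simpa using h)
  constructor
  · rw [injective_iff_map_eq_zero]
    intro t ht
    obtain ⟨w, rfl⟩ := (DFinsupp.mapRange_surjective (fun ij => ⇑(E ij)) (fun _ => map_zero _)).2 hsurj t
    replace ht : Φ L M n (EE w) = 0 := ht
    rw [hΘ, cls_eq_zero_iff _ n (m := n - 1) (by omega)] at ht
    obtain ⟨v, hv⟩ := ht
    change DFinsupp.mapRange.linearMap E w = 0
    ext ij : 1
    rw [DFinsupp.mapRange.linearMap_apply, DFinsupp.mapRange_apply]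
    change E ij (w ij) = 0
    have hcomp : tπ L M ij.1.1 ij.1.2 n ij.2 (Θ w).1 = (Z L ij.1.1).subtype.rTensor (M.X ij.1.2) (w ij) := by
      have : tπ L M ij.1.1 ij.1.2 n ij.2 ∘ₗ (Z (HTor.tensorCx L M) n).subtype ∘ₗ Θ =
          (Z L ij.1.1).subtype.rTensor (M.X ij.1.2) ∘ₗ DirectSum.component A _ _ ij := by
        refine DirectSum.linearMap_ext A fun kl => LinearMap.ext fun v => ?_
        change tπ L M _ _ n _ (Θ (DirectSum.lof A _ _ kl v)).1 = _
        rw [DirectSum.toModule_lof, hθ']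
        change _ = (Z L ij.1.1).subtype.rTensor (M.X ij.1.2) (DirectSum.component A (HTor.Antidiag n) (fun ij => TensorProduct A (Z L ij.1.1) (M.X ij.1.2)) ij
          (DirectSum.lof A (HTor.Antidiag n) (fun ij => TensorProduct A (Z L ij.1.1) (M.X ij.1.2)) kl v))
        by_cases he : kl = ij
        · subst he
          rw [tπ_tι]
          refine congrArg _ ?_
          symm
          exact DFinsupp.single_eq_same
        · rw [tπ_tι_ne _ _ (fun h => he (Subtype.ext h))]
          refine ((congrArg _ ?_).trans (map_zero _)).symm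
          exact DFinsupp.single_eq_of_ne (Ne.symm he)
      exact LinearMap.congr_fun this w
    obtain ⟨⟨i, j⟩, hij⟩ := ij
    change E ⟨(i, j), hij⟩ (w ⟨(i, j), hij⟩) = 0
    obtain ⟨k, rfl⟩ : ∃ k, i = k + 1 := ⟨i - 1, by omega⟩
    let toZ : L.X k →ₗ[A] Z L (k + 1) := (L.d k (k + 1)).hom.codRestrict _ (d_mem_Z L (k + 1) k)
    have hw : w ⟨(k + 1, j), hij⟩ = toZ.rTensor (M.X j) (tπ L M k j (n - 1) (by omega) v) := by
      have := hf j
      apply Module.Flat.rTensor_preserves_injective_linearMap (M := M.X j) (Z L (k + 1)).subtype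
        Subtype.val_injective
      rw [← LinearMap.rTensor_comp_apply]
      refine hcomp.symm.trans ((congrArg _ hv.symm).trans ?_)
      exact hd k j (n - 1) n (by omega) (by omega) v
    rw [hw]
    suffices E ⟨(k + 1, j), hij⟩ ∘ₗ toZ.rTensor (M.X j) = 0 from LinearMap.congr_fun this _
    refine TensorProduct.ext' fun x y => ?_
    change cls L (k + 1) (toZ x) ⊗ₜ[A] _ = 0
    rw [(cls_eq_zero_iff L (k + 1) rfl _).2 ⟨x, rfl⟩, TensorProduct.zero_tmul]
  · intro c
    obtain ⟨z, rfl⟩ := cls_surjective _ n c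
    have hex : ∀ ij : HTor.Antidiag n, ∃ w, (Z L ij.1.1).subtype.rTensor (M.X ij.1.2) w =
        tπ L M ij.1.1 ij.1.2 n ij.2 z.1 := fun ij => by
      have := hf ij.1.2
      refine (Module.Flat.rTensor_exact (M.X ij.1.2)
        (LinearMap.exact_subtype_ker_map (L.d ij.1.1 (ij.1.1 + 1)).hom) _).1 ?_
      refine (hd ij.1.1 ij.1.2 n (n + 1) ij.2 rfl z.1).symm.trans ?_
      rw [LinearMap.mem_ker.1 z.2, map_zero]
    choose w hw using hex
    let t := toDS L M n z.1
    let W := ∑ ij ∈ t.support,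
      DirectSum.lof A _ (fun ij : HTor.Antidiag n => TensorProduct A (Z L ij.1.1) (M.X ij.1.2)) ij (w ij)
    refine ⟨EE W, (hΘ W).trans (congrArg _ (Subtype.ext ?_))⟩
    refine Eq.trans ?_ (ofDS_toDS n z.1)
    refine Eq.trans ?_ (congrArg (ofDS L M n) (DirectSum.sum_support_of t))
    rw [map_sum, map_sum, AddSubmonoidClass.coe_finsetSum]
    refine Finset.sum_congr rfl fun ij _ => ?_
    rw [DirectSum.toModule_lof, hθ', hw]
    exact (ofDS_lof ij (t ij)).symm

end Groth.Agent.HTor16
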