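import Groth.Agent.HTor16.ProjPull
import Groth.Agent.HTor16.KunnethFlat
import Groth.Agent.HTor16.ExtTensor

/-!
# `Rf_*(P ⊗ f^*G)` for `P` flat over the base
-/

set_option autoImplicit false
set_option backward.isDefEq.respectTransparency false
set_option backward.defeqAttrib.useBackward true
set_option linter.style.haveILetI false
set_option synthInstance.maxHeartbeats 100000

universe u

open CategoryTheory CategoryTheory.Limits AlgebraicGeometry
open Groth.Agent.DCat

attribute [local instance] HasDerivedCategory.standard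
attribute [-instance] Int.instConditionallyCompleteLinearOrder

namespace Groth.Agent.HTor16

variable {X Y : Scheme.{u}} (f : X ⟶ Y) [QuasiCompact f] [QuasiSeparated f] [DCoh.HasRpush f]

/-- `Rf_*(P ⊗ f^* G) ≅ Rf_* P ⊗^L K` for a K-flat resolution `K` of `G` and `P` flat over the base. -/
theorem nonempty_rpush_tot_pull (P : CochainComplex X.Modules ℤ) (hq : ∀ n, Coh.IsQCoh (P.X n)) (b : ℤ)
    (hb : ∀ n, b < n → IsZero (P.X n)) (hfl : ∀ n, FlatMod.IsFlatOver f (P.X n))
    {K G : CochainComplex Y.Modules ℤ} (w : K ⟶ G) [QuasiIso w] (hKk : IsKFlatFor (shT Y) K)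
    (hKq : ∀ n, Coh.IsQCoh (K.X n)) (c : ℤ) (hc : ∀ n, c < n → IsZero (K.X n)) [DCoh.HasLTensorCx K] :
    let E := DCoh.toD X (tot (shT X) P (((Scheme.Modules.pullback f).mapHomologicalComplex (ComplexShape.up ℤ)).obj G))
    Nonempty ((DCoh.LTensorCx K).obj ((DCoh.Rpush f).obj (DCoh.toD X P)) ≅ (DCoh.Rpush f).obj E) ∧
      DCoh.IsQCohD E ∧ ∀ i, b + c < i → IsZero (DCoh.HD E i) := by
  intro E
  haveI := hasLpull f
  let M := ((Scheme.Modules.pullback f).mapHomologicalComplex (ComplexShape.up ℤ)).obj K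
  have hMk : IsKFlatFor (shT X) M := PullTot.isKFlatFor_pullback f hKk
  haveI := LTensorSheaf.hasLTensorCx M
  haveI := quasiIso_totMap₂_pull f P b hb hfl w
  haveI hiso : IsIso (DerivedCategory.Q.map
      (totMap₂ (shT X) P (((Scheme.Modules.pullback f).mapHomologicalComplex (ComplexShape.up ℤ)).map w))) :=
    (DerivedCategory.isIso_Q_map_iff_quasiIso _ _).2 inferInstance
  let eE : (DCoh.LTensorCx M).obj (DCoh.toD X P) ≅ E :=
    LTensorSheaf.ltensorCxIso' hMk P ≪≫ @asIso _ _ _ _ (DerivedCategory.Q.map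
      (totMap₂ (shT X) P (((Scheme.Modules.pullback f).mapHomologicalComplex (ComplexShape.up ℤ)).map w))) hiso
  have hPq : DCoh.IsQCohD (DCoh.toD X P) := DQCoh.isQCohD_Q P hq
  obtain ⟨u⟩ := nonempty_projection_pull f (DCoh.toD X P) hPq K hKk (DQCoh.isQCohD_Q K hKq)
  refine ⟨⟨u ≪≫ (DCoh.Rpush f).mapIso eE⟩, fun i => ?_, fun i hi => ?_⟩
  · have hMq : DCoh.IsQCohD (DerivedCategory.Q.obj M) := DQCoh.isQCohD_Q M fun n =>
      haveI := hKq n; EGA43.InjFibre.isQCoh_pullback f (K.X n)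
    exact Coherent.isQCoh_of_iso ((DerivedCategory.homologyFunctor X.Modules i).mapIso eE)
      (h := DQCoh.isQCohD_LTensorCx M hMq _ hPq i)
  · refine IsZero.of_iso ?_ ((DerivedCategory.homologyFunctor X.Modules i).mapIso
      ((LTensorSheaf.ltensorCxIso' hMk P).symm ≪≫ eE)).symm
    refine IsZero.of_iso ?_ ((DerivedCategory.homologyFunctorFactors X.Modules i).app _)
    exact ShortComplex.isZero_homology_of_isZero_X₂ _ (isZero_tot_of_bounds P M b c hb
      (fun n hn => (Scheme.Modules.pullback f).map_isZero (hc n hn)) i hi)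

/-- The same, with a complex `K'` representing `Rf_* P`. -/
theorem nonempty_rpush_tot_pull' (P : CochainComplex X.Modules ℤ) (hq : ∀ n, Coh.IsQCoh (P.X n)) (b : ℤ)
    (hb : ∀ n, b < n → IsZero (P.X n)) (hfl : ∀ n, FlatMod.IsFlatOver f (P.X n))
    (K' : CochainComplex Y.Modules ℤ) (u' : (DCoh.Rpush f).obj (DCoh.toD X P) ≅ DerivedCategory.Q.obj K')
    {K G : CochainComplex Y.Modules ℤ} (w : K ⟶ G) [QuasiIso w] (hKk : IsKFlatFor (shT Y) K)
    (hKq : ∀ n, Coh.IsQCoh (K.X n)) (c : ℤ) (hc : ∀ n, c < n → IsZero (K.X n)) :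
    let E := DCoh.toD X (tot (shT X) P (((Scheme.Modules.pullback f).mapHomologicalComplex (ComplexShape.up ℤ)).obj G))
    Nonempty ((DCoh.Rpush f).obj E ≅ DerivedCategory.Q.obj (tot (shT Y) K' K)) ∧
      DCoh.IsQCohD E ∧ ∀ i, b + c < i → IsZero (DCoh.HD E i) := by
  intro E
  haveI := LTensorSheaf.hasLTensorCx K
  obtain ⟨⟨u⟩, hE⟩ := nonempty_rpush_tot_pull f P hq b hb hfl w hKk hKq c hc
  exact ⟨⟨u.symm ≪≫ (DCoh.LTensorCx K).mapIso u' ≪≫ LTensorSheaf.ltensorCxIso' hKk K'⟩, hE⟩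

end Groth.Agent.HTor16
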