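import Groth.Prelude.Def_HTor
import Groth.Agent.HTor16.Cls

/-! The tensor product of two complexes of modules, component by component. -/

set_option autoImplicit false
set_option backward.isDefEq.respectTransparency false
universe u

open CategoryTheory CategoryTheory.Limits MonoidalCategory HomologicalComplex TensorProduct

namespace Groth.Agent.HTor16

variable {A : Type u} [CommRing A] (L M : DRing.Cx A)

/-- The inclusion of a summand. -/
noncomputable def tι (i j n : ℤ) (h : i + j = n) :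
    TensorProduct A (L.X i) (M.X j) →ₗ[A] (HTor.tensorCx L M).X n := (ιTensorObj L M i j n h).hom

abbrev TT (n : ℤ) : Type u :=
  DirectSum (HTor.Antidiag n) fun ij => TensorProduct A (L.X ij.1.1) (M.X ij.1.2)

noncomputable def toDS (n : ℤ) : (HTor.tensorCx L M).X n →ₗ[A] TT L M n :=
  (mapBifunctorDesc (K₁ := L) (K₂ := M) (F := curriedTensor (ModuleCat.{u} A)) (c := ComplexShape.up ℤ)
    (j := n) (A := ModuleCat.of A (TT L M n))
    fun i j h => ModuleCat.ofHom
      (DirectSum.lof A (HTor.Antidiag n) (fun ij => TensorProduct A (L.X ij.1.1) (M.X ij.1.2)) ⟨(i, j), h⟩)).hom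

noncomputable def ofDS (n : ℤ) : TT L M n →ₗ[A] (HTor.tensorCx L M).X n :=
  DirectSum.toModule A _ _ fun ij => tι L M ij.1.1 ij.1.2 n ij.2

variable {L M}

lemma ext_tι {n : ℤ} {P : Type u} [AddCommGroup P] [Module A P]
    {f g : (HTor.tensorCx L M).X n →ₗ[A] P}
    (h : ∀ i j (e : i + j = n) (x : L.X i) (y : M.X j),
      f (tι L M i j n e (x ⊗ₜ y)) = g (tι L M i j n e (x ⊗ₜ y))) : f = g := by
  have : (ModuleCat.ofHom f : (HTor.tensorCx L M).X n ⟶ ModuleCat.of A P) = ModuleCat.ofHom g :=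
    mapBifunctor.hom_ext fun i j e => ModuleCat.MonoidalCategory.tensor_ext fun x y => h i j e x y
  exact congrArg ModuleCat.Hom.hom this

lemma toDS_tι (i j n : ℤ) (h : i + j = n) (t : TensorProduct A (L.X i) (M.X j)) :
    toDS L M n (tι L M i j n h t) =
      DirectSum.lof A (HTor.Antidiag n) (fun ij => TensorProduct A (L.X ij.1.1) (M.X ij.1.2)) ⟨(i, j), h⟩ t :=
  ConcreteCategory.congr_hom (ι_mapBifunctorDesc (K₁ := L) (K₂ := M) (F := curriedTensor (ModuleCat.{u} A))
    (c := ComplexShape.up ℤ) (A := ModuleCat.of A (TT L M n))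
    (fun i j h => ModuleCat.ofHom
      (DirectSum.lof A (HTor.Antidiag n) (fun ij => TensorProduct A (L.X ij.1.1) (M.X ij.1.2)) ⟨(i, j), h⟩))
    i j h) t

lemma ofDS_lof {n : ℤ} (ij : HTor.Antidiag n) (t : TensorProduct A (L.X ij.1.1) (M.X ij.1.2)) :
    ofDS L M n (DirectSum.lof A (HTor.Antidiag n) (fun ij => TensorProduct A (L.X ij.1.1) (M.X ij.1.2)) ij t) =
      tι L M ij.1.1 ij.1.2 n ij.2 t :=
  DirectSum.toModule_lof A (φ := fun ij : HTor.Antidiag n => tι L M ij.1.1 ij.1.2 n ij.2) ij t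

lemma ofDS_toDS (n : ℤ) (z : (HTor.tensorCx L M).X n) : ofDS L M n (toDS L M n z) = z := by
  suffices ofDS L M n ∘ₗ toDS L M n = LinearMap.id from LinearMap.congr_fun this z
  refine ext_tι fun i j e x y => ?_
  change ofDS L M n (toDS L M n _) = _
  rw [toDS_tι, ofDS_lof]
  rfl

lemma toDS_ofDS (n : ℤ) (t : TT L M n) : toDS L M n (ofDS L M n t) = t := by
  suffices toDS L M n ∘ₗ ofDS L M n = LinearMap.id from LinearMap.congr_fun this t
  refine DirectSum.linearMap_ext A fun ij => LinearMap.ext fun s => ?_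
  change toDS L M n (ofDS L M n _) = _
  rw [ofDS_lof, toDS_tι]
  rfl

variable (L M)

/-- The component of an element in a summand. -/
noncomputable def tπ (i j n : ℤ) (h : i + j = n) :
    (HTor.tensorCx L M).X n →ₗ[A] TensorProduct A (L.X i) (M.X j) :=
  DirectSum.component A (HTor.Antidiag n) (fun ij => TensorProduct A (L.X ij.1.1) (M.X ij.1.2)) ⟨(i, j), h⟩ ∘ₗ
    toDS L M n

variable {L M}

lemma ext_tπ {n : ℤ} {z w : (HTor.tensorCx L M).X n}
    (h : ∀ i j (e : i + j = n), tπ L M i j n e z = tπ L M i j n e w) : z = w := by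
  rw [← ofDS_toDS n z, ← ofDS_toDS n w]
  exact congrArg _ (DirectSum.ext_component A fun ij => h ij.1.1 ij.1.2 ij.2)

lemma tπ_tι (i j n : ℤ) (h : i + j = n) (t : TensorProduct A (L.X i) (M.X j)) :
    tπ L M i j n h (tι L M i j n h t) = t := by
  change DirectSum.component A (HTor.Antidiag n) (fun ij => TensorProduct A (L.X ij.1.1) (M.X ij.1.2))
    ⟨(i, j), h⟩ (toDS L M n _) = t
  rw [toDS_tι]
  exact DFinsupp.single_eq_same

lemma tπ_tι_ne {i j i' j' n : ℤ} (h : i + j = n) (h' : i' + j' = n) (hne : (i, j) ≠ (i', j'))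
    (t : TensorProduct A (L.X i) (M.X j)) : tπ L M i' j' n h' (tι L M i j n h t) = 0 := by
  change DirectSum.component A (HTor.Antidiag n) (fun ij => TensorProduct A (L.X ij.1.1) (M.X ij.1.2))
    ⟨(i', j'), h'⟩ (toDS L M n _) = 0
  rw [toDS_tι]
  refine (DirectSum.component.of (R := A) (M := fun ij : HTor.Antidiag n =>
    TensorProduct A (L.X ij.1.1) (M.X ij.1.2)) ⟨(i', j'), h'⟩ ⟨(i, j), h⟩ t).trans (dif_neg ?_)
  exact fun e => hne (congrArg Subtype.val e)

lemma induction_tι {n : ℤ} {p : (HTor.tensorCx L M).X n → Prop} (h0 : p 0)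
    (ht : ∀ i j (e : i + j = n) (t : TensorProduct A (L.X i) (M.X j)), p (tι L M i j n e t))
    (hadd : ∀ a b, p a → p b → p (a + b)) (z : (HTor.tensorCx L M).X n) : p z := by
  rw [← ofDS_toDS n z]
  induction (toDS L M n z) using DirectSum.induction_on with
  | zero => rw [map_zero]; exact h0
  | of ij t => exact (ofDS_lof ij t).symm ▸ ht _ _ _ t
  | add a b ha hb => rw [map_add]; exact hadd _ _ ha hb

/-- The differential on an elementary tensor. -/
lemma d_tι (i j n n' : ℤ) (h : i + j = n) (hn : n + 1 = n') (x : L.X i) (y : M.X j) :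
    (HTor.tensorCx L M).d n n' (tι L M i j n h (x ⊗ₜ y)) =
      tι L M (i + 1) j n' (by omega) (L.d i (i + 1) x ⊗ₜ y) +
        i.negOnePow • tι L M i (j + 1) n' (by omega) (x ⊗ₜ M.d j (j + 1) y) := by
  have key : ιTensorObj L M i j n h ≫ (HTor.tensorCx L M).d n n' =
      ((L.d i (i + 1)) ▷ (M.X j) ≫ ιTensorObj L M (i + 1) j n' (by omega)) +
        i.negOnePow • ((L.X i) ◁ (M.d j (j + 1)) ≫ ιTensorObj L M i (j + 1) n' (by omega)) := by
    rw [mapBifunctor.d_eq, Preadditive.comp_add, mapBifunctor.ι_D₁, mapBifunctor.ι_D₂,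
      mapBifunctor.d₁_eq _ _ _ _ (show (ComplexShape.up ℤ).Rel i (i + 1) by simp) _ _ (by simp; omega),
      mapBifunctor.d₂_eq _ _ _ _ _ (show (ComplexShape.up ℤ).Rel j (j + 1) by simp) _ (by simp; omega)]
    simp only [ComplexShape.ε₁_def, ComplexShape.ε₂_def, one_smul]
    rfl
  exact ConcreteCategory.congr_hom key (x ⊗ₜ y)

lemma tensorHom_tι {L' M' : DRing.Cx A} (f : L ⟶ L') (g : M ⟶ M') (i j n : ℤ) (h : i + j = n)
    (t : TensorProduct A (L.X i) (M.X j)) :
    (HomologicalComplex.tensorHom f g).f n (tι L M i j n h t) =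
      tι L' M' i j n h (TensorProduct.map (f.f i).hom (g.f j).hom t) := by
  suffices ((HomologicalComplex.tensorHom f g).f n).hom ∘ₗ tι L M i j n h =
      tι L' M' i j n h ∘ₗ TensorProduct.map (f.f i).hom (g.f j).hom from LinearMap.congr_fun this t
  refine TensorProduct.ext' fun x y => ?_
  exact ConcreteCategory.congr_hom (ι_mapBifunctorMap f g (curriedTensor (ModuleCat.{u} A))
    (ComplexShape.up ℤ) i j n h) (x ⊗ₜ y)

lemma tπ_tensorHom {L' M' : DRing.Cx A} (f : L ⟶ L') (g : M ⟶ M') (i j n : ℤ) (h : i + j = n)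
    (z : (HTor.tensorCx L M).X n) :
    tπ L' M' i j n h ((HomologicalComplex.tensorHom f g).f n z) =
      TensorProduct.map (f.f i).hom (g.f j).hom (tπ L M i j n h z) := by
  induction z using induction_tι with
  | h0 => simp
  | ht a b e t =>
    rw [tensorHom_tι]
    by_cases he : (a, b) = (i, j)
    · obtain ⟨rfl, rfl⟩ := Prod.mk.injEq .. ▸ he
      rw [tπ_tι, tπ_tι]
    · rw [tπ_tι_ne e h he, tπ_tι_ne e h he, map_zero]
  | hadd a b ha hb => rw [map_add, map_add, map_add, ha, hb, map_add]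

end Groth.Agent.HTor16
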